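import Cfsg.Agent.Omega.NOThreeL.RFEnd.Pts
import Cfsg.Agent.Omega.NOThreeL.RF.End
import Cfsg.Agent.Omega.NOThreeL.RBig.Quad

/-!
# NO-3L, `R ∩ (A)`, `k = 1`, fields (NsF), (f) END: (6) (Q) from the point system

`e = Zp I / I`; `Out Pt VV e` (one axis) implies (Q) for the abelian normal subgroups `A ≤ O₂(C)` of `C = C_G(Z)`
which centralise `Zp`:

* `HypF.VG_cent_of` : the lines over the points `t ~ e` centralise `Zp`;
* `HypF.quad` : the image of `A` satisfies `Quad`;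
* `HypF.reg_mem` : an element of `VV e` is the image of an element of `V`;
* **`HypF.qp_of`**; **`HypF.qpv : RF.End.QPV S P H`**;
* **`HypF.qp : RA.End.QP S P H`** under `fieldV` : `s ∈ S`, `[s, V] ≤ Zp` imply `s ∈ C(Zp)`.
-/

set_option autoImplicit false
set_option linter.unusedSectionVars false

namespace Cfsg.Agent.Omega.NOThreeL.RFEnd

open Subgroup Cfsg Cfsg.Agent.Omega.MinPar
open Cfsg.Agent.ZN (zc zl o2)
open Cfsg.Agent.Omega.Frame Cfsg.Agent.Omega.FrameNOFF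
open Cfsg.Agent.Omega.Node.NO3L Cfsg.Agent.Omega.NOThreeL.Basic
open Cfsg.Agent.Omega.NoFF.Basic (conj_conj mem_conj conj_le_iff conj_le_centralizer comm_symm comm_mono)
open Cfsg.Agent.MinSimple.VModule (zl_le zc_le_zl le_normalizer_zl zc_le o2_isPGroup le_normalizer_o2 le_o2
  normalizer_le_normalizer_zc)
open Cfsg.Agent.Omega.NOThreeL.RTools (cm cm_def cm_mul NN conj_mem_of_mem conj_le_NN le_NN NN_le le_normalizer_NN
  le_sup_inf isLong)
open Cfsg.Agent.Omega.NOThreeL.RBig.Pts (Mv Frame Out Quad)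
open Cfsg.Agent.Omega.NOThreeL.RA (Yy Rr Opp Md img exists_two)
open scoped Pointwise commutatorElement

universe u

variable {G : Type u} [Group G]

namespace HypF

variable [Finite G] {F : Type} [Field F] {e : G → Fin 2 → F} {S : Sylow 2 G} {P H Zp Rp Dp B : Subgroup G}
  (D : HypF e S P H Zp Rp Dp B)
  {M Γ : Type*} [AddCommGroup M] [Group Γ] [DistribMulAction Γ M] {ρ : ↥H →* Γ} {π : G → M}
include D

theorem VC : zl (S : Subgroup G) P ≤ CZ (S : Subgroup G) := by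
  refine D.VS.trans ?_
  intro s hs
  refine mem_centralizer_iff.2 fun z hz => ?_
  exact (zcomm hz hs).symm

theorem UC : zl (S : Subgroup G) H ≤ CZ (S : Subgroup G) := by
  refine D.US.trans ?_
  intro s hs
  refine mem_centralizer_iff.2 fun z hz => ?_
  exact (zcomm hz hs).symm

/-- `O₂(C) ≤ S` -/
theorem o2CZ_le : o2 (CZ (S : Subgroup G)) ≤ (S : Subgroup G) :=
  MinSimple.VModule.o2_le_of_sylow S.isPGroup' (MinSimple.Basic.not_dvd_relIndex S (le_CZ S))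

variable (Q : Md (zl (S : Subgroup G) H) (Rr (S : Subgroup G) P H) H ρ π)
include Q

theorem pt_e : img π Zp ∈ Pt π Zp H := by
  have h := mem_Pt (π := π) (Zp := Zp) (one_mem H)
  rwa [map_one, one_smul] at h

/-- the lines over `t ~ e` centralise `Zp` -/
theorem VG_cent_of {t : AddSubgroup M} (ht : ¬ Mv (VV ρ π Zp (S : Subgroup G) P) t (img π Zp)) :
    VG π Zp (S : Subgroup G) P H t ≤ centralizer (Zp : Set G) := by
  refine VG_le fun k hk hp a ha => ?_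
  have haH := D.conjV_le hk ha
  refine mem_centralizer_iff.2 fun z hz => ?_
  have hzU := D.ZU hz
  have h1 : ρ ⟨a, haH⟩ • π z = π z :=
    RBig.Pts.not_mv ht (mem_VV.2 ⟨a, haH, hp ▸ conj_le_VG hk ha, rfl⟩) (RA.Md.pi_mem hz)
  rw [D.smul_eq_iff Q haH hzU] at h1
  have h3 : z ∈ MulAut.conj (1 : G) • Zp := by rwa [map_one, one_smul]
  exact (D.comm_of_I (one_mem H) h3 (conj_le_NN hk ha) h1).symm

/-- the image of `A` -/
theorem quad {A : Subgroup G} (hAZ : A ≤ centralizer (Zp : Set G)) (hCA : CZ (S : Subgroup G) ≤ normalizer (A : Set G))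
    (hAA : A ≤ centralizer (A : Set G)) :
    Quad ρ.range (Pt π Zp H) (VV ρ π Zp (S : Subgroup G) P) (img π Zp)
      ((A.subgroupOf H).map ρ) where
  le := by
    rintro _ ⟨b, _, rfl⟩
    exact ⟨b, rfl⟩
  quad := by
    rintro _ ⟨⟨b, hbH⟩, hb, rfl⟩ _ ⟨⟨b', hbH'⟩, hb', rfl⟩ m
    have hb1 : b ∈ A := hb
    have hb2 : b' ∈ A := hb'
    obtain ⟨u, hu, rfl⟩ := Q.surj m
    rw [D.smul_add Q hbH' hu, D.smul_eq_iff Q hbH (D.cm_mem_U Q hbH' hu)]
    have h1 : cm b' u ∈ A := by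
      have h2 := conj_mem_of_mem (hCA (D.UC hu)) (inv_mem hb2)
      have e1 : cm b' u = b' * (u * b'⁻¹ * u⁻¹) := by rw [cm_def]; group
      rw [e1]
      exact mul_mem hb2 h2
    have h3 : cm b (cm b' u) = 1 := cm_eq_one.2 (mem_centralizer_iff.1 (hAA hb1) _ h1).symm
    rw [h3]
    exact one_mem _
  norm := by
    rintro t _ hte _ hv _ ⟨⟨b, hbH⟩, hb, rfl⟩
    have hb1 : b ∈ A := hb
    obtain ⟨w, hwH, hw, rfl⟩ := mem_VV.1 hv
    refine ⟨⟨w * b * w⁻¹, mul_mem (mul_mem hwH hbH) (inv_mem hwH)⟩, ?_, ?_⟩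
    · exact conj_mem_of_mem (hCA (centralizer_le D.zcZ (D.VG_cent_of Q hte hw))) hb1
    · rw [← map_mul, ← map_inv, ← map_mul]
      rfl
  fixe := by
    rintro _ ⟨⟨b, hbH⟩, hb, rfl⟩ x hx
    have hb1 : b ∈ A := hb
    obtain ⟨z, hz, rfl⟩ := (Q.mem_img D.ZU).1 hx
    rw [D.smul_eq_iff Q hbH (D.ZU hz)]
    have h2 : cm b z = 1 := cm_eq_one.2 (mem_centralizer_iff.1 (hAZ hb1) z hz).symm
    rw [h2]
    exact one_mem _

/-- an element of `VV e` is the image of an element of `V` -/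
theorem reg_mem (O : Out (Pt π Zp H) (VV ρ π Zp (S : Subgroup G) P) (img π Zp))
    {v : Γ} (hv : v ∈ VV ρ π Zp (S : Subgroup G) P (img π Zp)) :
    ∃ a ∈ zl (S : Subgroup G) P, ∃ ha : a ∈ H, v = ρ ⟨a, ha⟩ := by
  have hF := D.frame Q
  have he := D.pt_e Q
  have h1 : MulAut.conj (1 : G) • zl (S : Subgroup G) P = zl (S : Subgroup G) P := by rw [map_one, one_smul]
  have h1z : MulAut.conj (1 : G) • Zp = Zp := by rw [map_one, one_smul]
  have hV : ∀ a ∈ zl (S : Subgroup G) P, ∀ ha : a ∈ H,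
      ρ ⟨a, ha⟩ ∈ VV ρ π Zp (S : Subgroup G) P (img π Zp) := fun a ha haH => by
    have h2 := conj_le_VG (π := π) (Zp := Zp) (S := (S : Subgroup G)) (P := P) (one_mem H)
    rw [h1, h1z] at h2
    exact mem_VV.2 ⟨a, haH, h2 ha, rfl⟩
  -- `u ∈ U - Y`
  obtain ⟨u, hu, huY⟩ : ∃ u ∈ zl (S : Subgroup G) H, u ∉ MulAut.conj (1 : G) • Yy (S : Subgroup G) P H := by
    by_contra hcon
    push Not at hcon
    refine D.ne (comm_symm fun u hu => ?_)
    have h2 := hcon u hu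
    rw [map_one, one_smul] at h2
    exact (mem_inf.1 h2).2
  -- some element of `V` outside of `Z`
  have hux : π u ∉ RBig.Pts.Yx (VV ρ π Zp (S : Subgroup G) P) (img π Zp) := by
    intro h2
    obtain ⟨z, hz, hzF⟩ := D.Z_not_F (one_mem H)
    obtain ⟨a, ha, hc⟩ := D.exists_cm (one_mem H) hu huY hz
    rw [h1] at ha
    have haH := D.VH ha
    have h3 := h2 _ (hV a ha haH)
    rw [D.smul_eq_iff Q haH hu] at h3
    have h4 : z ∈ Rr (S : Subgroup G) P H := by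
      have h5 : cm a u * z ∈ Rr (S : Subgroup G) P H := D.Rp_le_Rr hc
      have h6 := mul_mem (inv_mem h3) h5
      rwa [inv_mul_cancel_left] at h6
    exact hzF (D.R_inf (one_mem H) h4 hz)
  obtain ⟨hreg1, hreg2⟩ := O.reg hF he hux
  -- `v • π u = π u + π z`
  have h3 : v • π u + π u ∈ img π Zp := hF.map _ he v hv _
  obtain ⟨z, hz, hzv⟩ := (Q.mem_img D.ZU).1 h3
  obtain ⟨a, ha, hc⟩ := D.exists_cm (one_mem H) hu huY (w := z) (by rwa [h1z])
  rw [h1] at ha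
  have haH := D.VH ha
  refine ⟨a, ha, haH, ?_⟩
  have h4 : ρ ⟨a, haH⟩ • π u + π u = π z := by
    rw [D.smul_add Q haH hu]
    have h5 : cm a u * z ∈ Rr (S : Subgroup G) P H := D.Rp_le_Rr hc
    have hcU := D.cm_mem_U Q haH hu
    have hzi : z⁻¹ = z := inv_eq_of_mul_eq_one_left (D.sqU (D.ZU hz))
    rw [Q.eq_iff hcU (D.ZU hz), hzi]
    exact h5
  have h5 : ρ ⟨a, haH⟩ • π u = v • π u := by
    have h6 : ρ ⟨a, haH⟩ • π u + π u = v • π u + π u := by rw [h4, hzv]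
    exact add_right_cancel h6
  have h6 := hreg2 (v⁻¹ * ρ ⟨a, haH⟩) (mul_mem (inv_mem hv) (hV a ha haH)) (by
    rw [mul_smul, h5, inv_smul_smul])
  rw [inv_mul_eq_one] at h6
  exact h6

/-- **(Q)** for subgroups centralising `Zp` -/
theorem qp_of [Finite M] (O : Out (Pt π Zp H) (VV ρ π Zp (S : Subgroup G) P) (img π Zp)) {A : Subgroup G}
    (hA : A ≤ (S : Subgroup G)) (hAZ : A ≤ centralizer (Zp : Set G))
    (hCA : CZ (S : Subgroup G) ≤ normalizer (A : Set G)) (hAA : A ≤ centralizer (A : Set G)) :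
    A ≤ zl (S : Subgroup G) P ⊔ centralizer (zl (S : Subgroup G) H : Set G) := by
  intro b hb
  have hQ := D.quad Q hAZ hCA hAA
  have hF := D.frame Q
  have he := D.pt_e Q
  have hbH : b ∈ H := D.SH (hA hb)
  obtain ⟨v, hv, h1⟩ := hQ.main O hF he (b := ρ ⟨b, hbH⟩) ⟨⟨b, hbH⟩, hb, rfl⟩
  obtain ⟨a, ha, haH, rfl⟩ := D.reg_mem Q O hv
  have hbaH : b * a⁻¹ ∈ H := mul_mem hbH (inv_mem haH)
  have h2 : ∀ x ∈ zl (S : Subgroup G) H, cm (b * a⁻¹) x ∈ Rr (S : Subgroup G) P H := by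
    intro x hx
    rw [← D.smul_eq_iff Q hbaH hx]
    have h3 : ρ ⟨b * a⁻¹, hbaH⟩ = ρ ⟨b, hbH⟩ * (ρ ⟨a, haH⟩)⁻¹ := by
      rw [← map_inv, ← map_mul]
      rfl
    rw [h3, mul_smul, h1, smul_inv_smul]
  have haZ : a ∈ centralizer (Zp : Set G) := mem_centralizer_iff.2 fun z hz => D.commV (D.ZV hz) ha
  have h3 := D.tr_Z hbaH (mul_mem (hAZ hb) (inv_mem haZ)) h2
  have h4 : b * a⁻¹ ∈ centralizer (zl (S : Subgroup G) H : Set G) :=
    mem_centralizer_iff.2 fun x hx => (cm_eq_one.1 (h3 x hx)).symm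
  have h5 : b = b * a⁻¹ * a := by group
  rw [h5]
  exact mul_mem (mem_sup_right h4) (mem_sup_left ha)

/-- **(Q)**, the form of `RF.End` -/
theorem qpv [Finite M] (O : Out (Pt π Zp H) (VV ρ π Zp (S : Subgroup G) P) (img π Zp)) :
    RF.End.QPV (S : Subgroup G) P H := by
  intro A hA hCA hAA hAV
  exact D.qp_of Q O (hA.trans D.o2CZ_le) (hAV.trans (centralizer_le D.ZV)) hCA hAA

omit Q in
/-- `A ≤ S₀`: an abelian normal subgroup `A ≤ O₂(C)` of `C` centralises `Zp` -/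
theorem le_cent_Zp (fieldV : ∀ s ∈ (S : Subgroup G), (∀ v ∈ zl (S : Subgroup G) P, cm s v ∈ Zp) →
    s ∈ centralizer (Zp : Set G)) {A : Subgroup G} (hA : A ≤ (S : Subgroup G))
    (hCA : CZ (S : Subgroup G) ≤ normalizer (A : Set G)) (hAA : A ≤ centralizer (A : Set G)) :
    A ≤ centralizer (Zp : Set G) := by
  intro b hb
  have hbS := hA hb
  by_cases h : ∀ v ∈ zl (S : Subgroup G) P, cm b v ∈ Zp
  · exact fieldV b hbS h
  push Not at h
  obtain ⟨v, hv, hw⟩ := h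
  -- `w = [b, v] ∈ A ∩ V - Zp`
  set w := cm b v with hwdef
  have hwA : w ∈ A := by
    have h2 := conj_mem_of_mem (hCA (D.VC hv)) (inv_mem hb)
    have e1 : w = b * (v * b⁻¹ * v⁻¹) := by rw [hwdef, cm_def]; group
    rw [e1]
    exact mul_mem hb h2
  have hwV : w ∈ zl (S : Subgroup G) P := by
    have e1 : w = (b * v * b⁻¹) * v⁻¹ := by rw [hwdef, cm_def]
    rw [e1]
    exact mul_mem (conj_mem_of_mem (D.PV (D.SP hbS)) hv) (inv_mem hv)
  have hw1 : e w 1 ≠ 0 := fun h0 => hw ((D.line w hwV).1 h0)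
  refine D.field b hbS fun z hz => ?_
  have hzV := D.ZV hz
  -- `z = [u, w] d`
  obtain ⟨u, hu, hAct⟩ := D.up2 (e z 0 * (e w 1)⁻¹)
  have huP : u ∈ P := D.SP (D.US hu)
  have he1 := D.e_cm hwV huP hAct
  set c := cm w u with hc
  have hcA : c ∈ A := by
    have e1 : c = w * (u * w⁻¹ * u⁻¹) := by rw [hc, cm_def]; group
    rw [e1]
    exact mul_mem hwA (conj_mem_of_mem (hCA (D.UC hu)) (inv_mem hwA))
  have hcV : c ∈ zl (S : Subgroup G) P := by
    have e1 : c = w * (u * w⁻¹ * u⁻¹) := by rw [hc, cm_def]; group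
    rw [e1]
    exact mul_mem hwV (conj_mem_of_mem (D.PV huP) (inv_mem hwV))
  have hec : e c = e z := by
    rw [he1]
    funext i
    fin_cases i
    · change e z 0 * (e w 1)⁻¹ * e w 1 = e z 0
      rw [mul_assoc, inv_mul_cancel₀ hw1, mul_one]
    · exact ((D.line z hzV).2 hz).symm
  have hd : c * z ∈ Dp := by
    rw [← D.ker _ (mul_mem hcV hzV), D.mul c hcV z hzV, hec, ← D.mul z hzV z hzV, D.sqV hzV]
    exact (D.ker 1 (one_mem _)).2 (one_mem _)
  have hbP := D.SP hbS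
  have hbc : b * c * b⁻¹ = c := by
    rw [← mem_centralizer_iff.1 (hAA hb) c hcA, mul_inv_cancel_right]
  have hcc : c * c = 1 := D.sqV hcV
  have e2 : b * z * b⁻¹ = c * (b * (c * z) * b⁻¹) := by
    calc b * z * b⁻¹ = b * (c * c) * z * b⁻¹ := by rw [hcc]; group
      _ = (b * c * b⁻¹) * (b * (c * z) * b⁻¹) := by group
      _ = c * (b * (c * z) * b⁻¹) := by rw [hbc]
  have hd' : b * (c * z) * b⁻¹ ∈ Dp := conj_mem_of_mem (D.PD hbP) hd
  have hd'V := D.ZV (D.DZ hd')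
  rw [e2, D.mul c hcV _ hd'V, (D.ker _ hd'V).2 hd', add_zero, hec]

/-- **(Q)** -/
theorem qp [Finite M] (fieldV : ∀ s ∈ (S : Subgroup G), (∀ v ∈ zl (S : Subgroup G) P, cm s v ∈ Zp) →
    s ∈ centralizer (Zp : Set G))
    (O : Out (Pt π Zp H) (VV ρ π Zp (S : Subgroup G) P) (img π Zp)) : RA.End.QP (S : Subgroup G) P H := by
  intro A hA hCA hAA
  have hAS := hA.trans D.o2CZ_le
  exact D.qp_of Q O hAS (D.le_cent_Zp fieldV hAS hCA hAA) hCA hAA

end HypF

end Cfsg.Agent.Omega.NOThreeL.RFEnd
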