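import Cfsg.Agent.Omega.NOThreeL.RFEnd.End
import Cfsg.Agent.Omega.NOThreeL.RFEnd.QPts

/-!
# NO-3L, `R ∩ (A)`, `k = 1`, fields (NsF), (f) END

**`HypF.false`** : the frame `HypF` is contradictory.
-/

set_option autoImplicit false

namespace Cfsg.Agent.Omega.NOThreeL.RFEnd

open Subgroup Cfsg

universe u

variable {G : Type u} [Group G] [Finite G] {F : Type} [Field F] {e : G → Fin 2 → F} {S : Sylow 2 G}
  {P H Zp Rp Dp B : Subgroup G}

/-- **(f) END** -/
theorem HypF.false (D : HypF e S P H Zp Rp Dp B) : False :=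
  D.false_of fun _ _ _ _ _ _ _ _ Q O => D.qpv Q O

end Cfsg.Agent.Omega.NOThreeL.RFEnd
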