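import Cfsg.Agent.Omega.NOThreeL.RA.Base

/-!
# NO-3L, `R ∩ (A)`, `k = 1`, nonsplit, field automorphisms (NsF), (f) END: the frame

`#22083` (helper618) (f) in the form of helper401: `V = V_P = zl S P`, `Z⁺ = Zp = Rp × Dp = C_V(S₀)`, `Dp = C_V(O²(P))`,
`H = H*` minimal over `B = T_P S` in `N_G(Rp)` with `V ≰ O₂(H)`, `U = zl S H`, `N = NN S P H = ⟨V^H⟩ ≤ C_G(Rp)`,
`I = Rr S P H = C_U(N)`, `Y = Yy S P H = C_U(V)`.

`HypF e S P H Zp Rp Dp B` : the literal data. This is #19087 with `Z := Zp`, `F := Rp`, `E := Dp`, (MIN) from (GD):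

* `exists_nb` : `H = N B`; `R_inf_Z` : `I ∩ Zp = Rp`; `triv`, `tr_N`, `tr_Z` (TR);
* **`V_le_o2N`** (MIN) : `x ∈ Zp^h - Rp` implies `V^h ≤ O₂(C_N(x))`.
-/

set_option autoImplicit false
set_option linter.unusedSectionVars false

namespace Cfsg.Agent.Omega.NOThreeL.RFEnd

open Subgroup Cfsg Cfsg.Agent.Omega.MinPar
open Cfsg.Agent.ZN (zc zl o2)
open Cfsg.Agent.Omega.Frame Cfsg.Agent.Omega.FrameNOFF
open Cfsg.Agent.Omega.Node.NO3L Cfsg.Agent.Omega.NOThreeL.Basic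
open Cfsg.Agent.Omega.NoFF.Basic (conj_conj mem_conj conj_le_iff conj_le_centralizer comm_symm comm_mono)
open Cfsg.Agent.Omega.NOThreeL.Pair (conj_eq_of_mem conj_le_normalizer zl_abel)
open Cfsg.Agent.MinSimple.VModule (zl_le zc_le_zl le_normalizer_zl zc_le o2_isPGroup le_normalizer_o2 le_o2
  normalizer_le_normalizer_zc)
open Cfsg.Agent.Omega.NOThreeL (mem_normalizer_of_conj_eq le_normalizer_of mem_sup_of_comm)
open Cfsg.Agent.Omega.NOThreeL.RTools (cm cm_def cm_mul NN conj_mem_of_mem conj_le_NN le_NN NN_le le_normalizer_NN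
  le_sup_inf isLong)
open Cfsg.Agent.Omega.NOThreeL.AOne (Act)
open Cfsg.Agent.Omega.NOThreeL.RA (Yy Rr le_o2_of_pairs)
open Cfsg.Agent.Lib.SL2Mat
open Cfsg.Agent.Omega.NatPair (ap ap_mul ap_one ap_inv_ap)
open scoped Pointwise commutatorElement

universe u

variable {G : Type u} [Group G]

/-- The frame hypotheses of (f): `Zp = Z⁺ = C_V(S₀)`, `Rp = R = [Z⁺, T_P]`, `Dp = C_V(O²(P))`, `B = T_P S`, `H = H*`. -/
structure HypF [Finite G] {F : Type} [Field F] (e : G → Fin 2 → F) (S : Sylow 2 G) (P H Zp Rp Dp B : Subgroup G) :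
    Prop where
  hc : IsCharacteristicTwoType G
  data : Data (S : Subgroup G)
  par : IsParS (S : Subgroup G) P
  loc : IsLoc (S : Subgroup G) H
  ne : ¬ zl (S : Subgroup G) P ≤ centralizer (zl (S : Subgroup G) H : Set G)
  /-- coordinates on `V / D` -/
  mul : ∀ v ∈ zl (S : Subgroup G) P, ∀ w ∈ zl (S : Subgroup G) P, e (v * w) = e v + e w
  surj : ∀ x : Fin 2 → F, ∃ v ∈ zl (S : Subgroup G) P, e v = x
  ker : ∀ v ∈ zl (S : Subgroup G) P, e v = 0 ↔ v ∈ Dp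
  line : ∀ v ∈ zl (S : Subgroup G) P, e v 1 = 0 ↔ v ∈ Zp
  lift : ∀ A : Matrix.SpecialLinearGroup (Fin 2) F, ∃ g ∈ P, Act e (zl (S : Subgroup G) P) g A
  up1 : ∀ u ∈ zl (S : Subgroup G) H, ∃ b, Act e (zl (S : Subgroup G) P) u (up b)
  up2 : ∀ b, ∃ u ∈ zl (S : Subgroup G) H, Act e (zl (S : Subgroup G) P) u (up b)
  cent : ∀ g ∈ zl (S : Subgroup G) H, Act e (zl (S : Subgroup G) P) g 1 → g ∈ centralizer (zl (S : Subgroup G) P : Set G)
  ZV : Zp ≤ zl (S : Subgroup G) P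
  ZU : Zp ≤ zl (S : Subgroup G) H
  zcZ : zc (S : Subgroup G) ≤ Zp
  RZ : Rp ≤ Zp
  DZ : Dp ≤ Zp
  ZRD : Zp ≤ Rp ⊔ Dp
  RD : Rp ⊓ Dp = ⊥
  PD : P ≤ normalizer (Dp : Set G)
  /-- `Z ≤ [U, V] R` -/
  ZUV : Zp ≤ ⁅zl (S : Subgroup G) H, zl (S : Subgroup G) P⁆ ⊔ Rp
  /-- `H = N B` -/
  SB : (S : Subgroup G) ≤ B
  BP : B ≤ P
  BH : B ≤ H
  BZ : B ≤ normalizer (Zp : Set G)
  HB : H ≤ NN (S : Subgroup G) P H ⊔ B
  HRp : H ≤ normalizer (Rp : Set G)
  NR : NN (S : Subgroup G) P H ≤ centralizer (Rp : Set G)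
  SN : (S : Subgroup G) ⊓ NN (S : Subgroup G) P H ≤ centralizer (Zp : Set G)
  /-- an element of `S` which acts on `V / D` as some `up b` centralises `Z⁺` -/
  field : ∀ s ∈ (S : Subgroup G), (∀ v ∈ Zp, e (s * v * s⁻¹) = e v) → s ∈ centralizer (Zp : Set G)
  /-- (GD) -/
  gd : ∀ x ∈ Dp, x ≠ 1 → zl (S : Subgroup G) P ≤ o2 (centralizer ({x} : Set G))
  /-- (GOOD) -/
  good : ∀ z ∈ zc (S : Subgroup G), z ∉ Rp → zl (S : Subgroup G) P ≤ o2 (centralizer ({z} : Set G))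
  /-- the torus -/
  tor : ∀ z ∈ (zc (S : Subgroup G) ⊓ Dp) ⊔ Rp, ∃ p ∈ B, p * z * p⁻¹ ∈ zc (S : Subgroup G)
  eps : ∃ x ∈ zc (S : Subgroup G) ⊓ Dp, x ≠ 1

namespace HypF

variable [Finite G] {F : Type} [Field F] {e : G → Fin 2 → F} {S : Sylow 2 G} {P H Zp Rp Dp B : Subgroup G}
  (D : HypF e S P H Zp Rp Dp B)
include D

/-! ### elementary facts -/

theorem commV {x y : G} (hx : x ∈ zl (S : Subgroup G) P) (hy : y ∈ zl (S : Subgroup G) P) : x * y = y * x :=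
  mem_centralizer_iff.mp ((zl_abel D.hc S D.par.isLoc).1 hy) x hx

theorem sqV {x : G} (hx : x ∈ zl (S : Subgroup G) P) : x * x = 1 := by
  have h := (zl_abel D.hc S D.par.isLoc).2 x hx
  rwa [pow_two] at h

theorem commU {x y : G} (hx : x ∈ zl (S : Subgroup G) H) (hy : y ∈ zl (S : Subgroup G) H) : x * y = y * x :=
  mem_centralizer_iff.mp ((zl_abel D.hc S D.loc).1 hy) x hx

theorem sqU {x : G} (hx : x ∈ zl (S : Subgroup G) H) : x * x = 1 := by
  have h := (zl_abel D.hc S D.loc).2 x hx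
  rwa [pow_two] at h

theorem SH : (S : Subgroup G) ≤ H := D.loc.le

theorem SP : (S : Subgroup G) ≤ P := D.par.le

theorem VS : zl (S : Subgroup G) P ≤ (S : Subgroup G) := IsParS.zl_le_S D.hc D.par

theorem US : zl (S : Subgroup G) H ≤ (S : Subgroup G) :=
  ((D.loc.zl_le S D.hc).trans (zc_le _)).trans (D.loc.o2_le S)

theorem ZS : Zp ≤ (S : Subgroup G) := D.ZV.trans D.VS

theorem VH : zl (S : Subgroup G) P ≤ H := D.VS.trans D.SH

theorem HU : H ≤ normalizer (zl (S : Subgroup G) H : Set G) := le_normalizer_zl _ _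

theorem PV : P ≤ normalizer (zl (S : Subgroup G) P : Set G) := le_normalizer_zl _ _

omit D in
theorem zcomm {z s : G} (hz : z ∈ zc (S : Subgroup G)) (hs : s ∈ (S : Subgroup G)) : s * z = z * s :=
  (Cfsg.Agent.MinSimple.VModule.mem_zc.1 hz).2.1 s hs

/-- `O₂(H)` centralises `U` -/
theorem o2_cent : o2 H ≤ centralizer (zl (S : Subgroup G) H : Set G) :=
  Cfsg.Agent.MinSimple.VModule.o2_le_centralizer_zl D.loc.le S.isPGroup'
    (MinSimple.Basic.not_dvd_relIndex S D.loc.le) (D.loc.char2 S D.hc)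

/-! ### `H = N B` -/

theorem NN_le_H : NN (S : Subgroup G) P H ≤ H := NN_le fun x hx => by
  have h1 := conj_le_iff (g := x).2 D.VH
  rwa [conj_eq_of_mem (Subgroup.le_normalizer hx)] at h1

theorem exists_nb {h : G} (hh : h ∈ H) : ∃ n ∈ NN (S : Subgroup G) P H, ∃ c ∈ B, h = n * c := by
  have h1 : h ∈ ((NN (S : Subgroup G) P H ⊔ B : Subgroup G) : Set G) := D.HB hh
  rw [coe_mul_of_right_le_normalizer_left _ _ (D.BH.trans (le_normalizer_NN _ _ _))] at h1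
  obtain ⟨n, hn, c, hc, rfl⟩ := Set.mem_mul.mp h1
  exact ⟨n, hn, c, hc, rfl⟩

/-- the points are the `Zp^n`, `n ∈ N` -/
theorem exists_conj {h : G} (hh : h ∈ H) : ∃ n ∈ NN (S : Subgroup G) P H,
    MulAut.conj h • Zp = MulAut.conj n • Zp := by
  obtain ⟨n, hn, c, hc, rfl⟩ := D.exists_nb hh
  refine ⟨n, hn, ?_⟩
  rw [← conj_conj, conj_eq_of_mem (D.BZ hc)]

/-- the lines are the `V^n`, `n ∈ N` -/
theorem exists_conjV {h : G} (hh : h ∈ H) : ∃ n ∈ NN (S : Subgroup G) P H,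
    MulAut.conj h • zl (S : Subgroup G) P = MulAut.conj n • zl (S : Subgroup G) P ∧
      MulAut.conj h • Zp = MulAut.conj n • Zp := by
  obtain ⟨n, hn, c, hc, rfl⟩ := D.exists_nb hh
  refine ⟨n, hn, ?_, ?_⟩
  · rw [← conj_conj, conj_eq_of_mem (D.PV (D.BP hc))]
  · rw [← conj_conj, conj_eq_of_mem (D.BZ hc)]

/-! ### `Rp` -/

theorem RV : Rp ≤ zl (S : Subgroup G) P := D.RZ.trans D.ZV

theorem RpU : Rp ≤ zl (S : Subgroup G) H := D.RZ.trans D.ZU

theorem Rp_conj {x h : G} (hx : x ∈ Rp) (hh : h ∈ H) : h * x * h⁻¹ ∈ Rp := conj_mem_of_mem (D.HRp hh) hx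

theorem Rp_conj' {x h : G} (hx : x ∈ Rp) (hh : h ∈ H) : h⁻¹ * x * h ∈ Rp := by
  have h1 := D.Rp_conj hx (inv_mem hh)
  rwa [inv_inv] at h1

theorem Rp_fix {x n : G} (hx : x ∈ Rp) (hn : n ∈ NN (S : Subgroup G) P H) : n * x = x * n :=
  (mem_centralizer_iff.mp (D.NR hn) x hx).symm

/-- `Rp ≤ Zp^h` -/
theorem Rp_le {h : G} (hh : h ∈ H) : Rp ≤ MulAut.conj h • Zp := by
  intro x hx
  rw [mem_conj]
  exact D.RZ (D.Rp_conj' hx hh)

theorem Rp_le_Rr : Rp ≤ Rr (S : Subgroup G) P H := le_inf D.RpU (by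
  rw [← Subgroup.le_centralizer_iff]
  exact D.NR)

/-- `x ∈ Zp - Rp`: `V ≤ O₂(C_N(x))` -/
theorem V_le_o2N_one {x : G} (hx : x ∈ Zp) (hxF : x ∉ Rp) :
    zl (S : Subgroup G) P ≤ o2 (NN (S : Subgroup G) P H ⊓ centralizer ({x} : Set G)) := by
  obtain ⟨r, hr, d, hd, rfl⟩ : ∃ r ∈ Rp, ∃ d ∈ Dp, x = r * d := by
    have h1 : x ∈ ((Rp ⊔ Dp : Subgroup G) : Set G) := D.ZRD hx
    have hn : Rp ≤ normalizer (Dp : Set G) := (D.RV.trans (D.VS.trans D.SP)).trans D.PD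
    rw [coe_mul_of_left_le_normalizer_right _ _ hn] at h1
    obtain ⟨n, hn, c, hc, h⟩ := Set.mem_mul.mp h1
    exact ⟨n, hn, c, hc, h.symm⟩
  have hd1 : d ≠ 1 := by
    rintro rfl
    exact hxF (by rwa [mul_one])
  have h1 := D.gd d hd hd1
  have h2 : NN (S : Subgroup G) P H ⊓ centralizer ({r * d} : Set G) ≤ centralizer ({d} : Set G) := by
    intro n hn
    obtain ⟨hn1, hn2⟩ := mem_inf.1 hn
    rw [mem_centralizer_singleton_iff] at hn2 ⊢
    have h3 := D.Rp_fix hr hn1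
    calc n * d = r⁻¹ * (r * n) * d := by group
      _ = r⁻¹ * (n * r) * d := by rw [h3]
      _ = r⁻¹ * (n * (r * d)) := by group
      _ = r⁻¹ * (r * d * n) := by rw [hn2]
      _ = d * n := by group
  have h3 : o2 (centralizer ({d} : Set G)) ⊓ (NN (S : Subgroup G) P H ⊓ centralizer ({r * d} : Set G)) ≤
      o2 (NN (S : Subgroup G) P H ⊓ centralizer ({r * d} : Set G)) := by
    refine le_o2 inf_le_right ((o2_isPGroup _).to_le inf_le_left) ?_
    exact le_normalizer_of fun g hg y hy =>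
      mem_inf.2 ⟨conj_mem_of_mem (le_normalizer_o2 _ (h2 hg)) (mem_inf.1 hy).1,
        mul_mem (mul_mem hg (mem_inf.1 hy).2) (inv_mem hg)⟩
  refine (le_inf h1 (le_inf (le_NN _ _ _) ?_)).trans h3
  intro v hv
  rw [mem_centralizer_singleton_iff]
  exact D.commV hv (D.ZV hx)

/-- **(MIN)** `x ∈ Zp^h - Rp`: `V^h ≤ O₂(C_N(x))` -/
theorem V_le_o2N {h x : G} (hh : h ∈ H) (hx : x ∈ MulAut.conj h • Zp) (hxF : x ∉ Rp) :
    MulAut.conj h • zl (S : Subgroup G) P ≤ o2 (NN (S : Subgroup G) P H ⊓ centralizer ({x} : Set G)) := by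
  rw [mem_conj] at hx
  set y := h⁻¹ * x * h with hy
  have e1 : x = h * y * h⁻¹ := by rw [hy]; group
  have hyF : y ∉ Rp := fun h1 => hxF (by rw [e1]; exact D.Rp_conj h1 hh)
  have h3 := (conj_le_iff (g := h)).2 (D.V_le_o2N_one hx hyF)
  rw [← show o2 (MulAut.conj h • (NN (S : Subgroup G) P H ⊓ centralizer ({y} : Set G))) =
    MulAut.conj h • o2 (NN (S : Subgroup G) P H ⊓ centralizer ({y} : Set G)) from o2_map_equiv (MulAut.conj h) _] at h3
  have e2 : MulAut.conj h • (NN (S : Subgroup G) P H ⊓ centralizer ({y} : Set G)) =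
      NN (S : Subgroup G) P H ⊓ centralizer ({x} : Set G) := by
    rw [Subgroup.smul_inf, conj_eq_of_mem (le_normalizer_NN _ _ _ hh)]
    congr 1
    ext g
    rw [mem_conj, mem_centralizer_singleton_iff, mem_centralizer_singleton_iff, e1]
    constructor
    · intro h4
      calc g * (h * y * h⁻¹) = h * ((h⁻¹ * g * h) * y) * h⁻¹ := by group
        _ = h * (y * (h⁻¹ * g * h)) * h⁻¹ := by rw [h4]
        _ = (h * y * h⁻¹) * g := by group
    · intro h4
      calc (h⁻¹ * g * h) * y = h⁻¹ * (g * (h * y * h⁻¹)) * h := by group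
        _ = h⁻¹ * ((h * y * h⁻¹) * g) * h := by rw [h4]
        _ = y * (h⁻¹ * g * h) := by group
  rwa [e2] at h3

theorem HR : H ≤ normalizer (Rr (S : Subgroup G) P H : Set G) := by
  refine le_normalizer_of fun h hh x hx => mem_inf.mpr ⟨conj_mem_of_mem (D.HU hh) (mem_inf.mp hx).1, ?_⟩
  rw [mem_centralizer_iff]
  intro y hy
  have hy' : h⁻¹ * y * h ∈ NN (S : Subgroup G) P H := by
    have h1 := conj_mem_of_mem (le_normalizer_NN (S : Subgroup G) P H (inv_mem hh)) hy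
    rwa [inv_inv] at h1
  have h1 := mem_centralizer_iff.mp (mem_inf.mp hx).2 _ hy'
  calc y * (h * x * h⁻¹) = h * ((h⁻¹ * y * h) * x) * h⁻¹ := by group
    _ = h * (x * (h⁻¹ * y * h)) * h⁻¹ := by rw [h1]
    _ = h * x * h⁻¹ * y := by group

theorem RU : Rr (S : Subgroup G) P H ≤ zl (S : Subgroup G) H := inf_le_left

/-- `V ≰ O₂(N)` -/
theorem not_le_o2N : ¬ zl (S : Subgroup G) P ≤ o2 (NN (S : Subgroup G) P H) := by
  intro h3
  have h6 : o2 (NN (S : Subgroup G) P H) ≤ o2 H := by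
    refine le_o2 ((Cfsg.Agent.MinSimple.VModule.o2_le _).trans D.NN_le_H) (o2_isPGroup _) ?_
    refine (le_normalizer_NN (S : Subgroup G) P H).trans ?_
    exact Cfsg.Agent.Omega.normalizer_le_normalizer_o2' _
  exact D.ne ((h3.trans h6).trans D.o2_cent)

/-- `I ∩ Zp = Rp` -/
theorem R_inf_Z : Rr (S : Subgroup G) P H ⊓ Zp = Rp := by
  apply le_antisymm
  · intro x hx
    obtain ⟨hx1, hx2⟩ := mem_inf.mp hx
    by_contra hxF
    have h1 := D.V_le_o2N_one hx2 hxF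
    have h2 : NN (S : Subgroup G) P H ⊓ centralizer ({x} : Set G) = NN (S : Subgroup G) P H := by
      rw [inf_eq_left]
      intro n hn
      rw [mem_centralizer_singleton_iff]
      exact mem_centralizer_iff.mp (mem_inf.mp hx1).2 n hn
    rw [h2] at h1
    exact D.not_le_o2N h1
  · exact le_inf D.Rp_le_Rr D.RZ

/-- `I ∩ Zp^h = Rp` -/
theorem R_inf {h : G} (hh : h ∈ H) {x : G} (hx : x ∈ Rr (S : Subgroup G) P H)
    (hz : x ∈ MulAut.conj h • Zp) : x ∈ Rp := by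
  rw [mem_conj] at hz
  have h1 : h⁻¹ * x * h ∈ Rr (S : Subgroup G) P H := by
    have h2 := conj_mem_of_mem (D.HR (inv_mem hh)) hx
    rwa [inv_inv] at h2
  have h2 : h⁻¹ * x * h ∈ Rp := by
    rw [← D.R_inf_Z]
    exact mem_inf.mpr ⟨h1, hz⟩
  have h3 := D.Rp_conj h2 hh
  have e1 : h * (h⁻¹ * x * h) * h⁻¹ = x := by group
  rwa [e1] at h3

/-! ### (TR) -/

/-- a subgroup of `H` trivial on `U / I` and on `I` is trivial on `U` -/
theorem triv {I : Subgroup G} (hI : I ≤ zl (S : Subgroup G) H) (hHI : H ≤ normalizer (I : Set G)) {h : G} (hh : h ∈ H)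
    (h1 : ∀ x ∈ zl (S : Subgroup G) H, cm h x ∈ I) (h2 : ∀ x ∈ I, cm h x = 1) :
    ∀ x ∈ zl (S : Subgroup G) H, cm h x = 1 := by
  let M₀ : Subgroup G :=
    { carrier := {h | h ∈ H ∧ (∀ x ∈ zl (S : Subgroup G) H, cm h x ∈ I) ∧ ∀ x ∈ I, cm h x = 1}
      mul_mem' := by
        rintro x y ⟨hx, h1, h2⟩ ⟨hy, h3, h4⟩
        refine ⟨mul_mem hx hy, fun f hf => ?_, fun f hf => ?_⟩
        · have e1 : cm (x * y) f = (x * cm y f * x⁻¹) * cm x f := by simp only [cm_def]; group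
          rw [e1]
          exact mul_mem (conj_mem_of_mem (hHI hx) (h3 f hf)) (h1 f hf)
        · have e1 : cm (x * y) f = (x * cm y f * x⁻¹) * cm x f := by simp only [cm_def]; group
          rw [e1, h4 f hf, h2 f hf]; group
      one_mem' := ⟨one_mem _, fun f _ => by
        have e1 : cm (1 : G) f = 1 := by rw [cm_def]; group
        rw [e1]; exact one_mem _, fun f _ => by rw [cm_def]; group⟩
      inv_mem' := by
        rintro x ⟨hx, h1, h2⟩
        refine ⟨inv_mem hx, fun f hf => ?_, fun f hf => ?_⟩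
        · have e1 : cm x⁻¹ f = x⁻¹ * (cm x f)⁻¹ * x⁻¹⁻¹ := by simp only [cm_def]; group
          rw [e1]
          exact conj_mem_of_mem (hHI (inv_mem hx)) (inv_mem (h1 f hf))
        · have e1 : cm x⁻¹ f = x⁻¹ * (cm x f)⁻¹ * x⁻¹⁻¹ := by simp only [cm_def]; group
          rw [e1, h2 f hf]; group }
  have hconj : ∀ {k x y : G}, cm (k * x * k⁻¹) y = k * cm x (k⁻¹ * y * k) * k⁻¹ := by
    intro k x y; simp only [cm_def]; group
  have hM₀n : H ≤ normalizer (M₀ : Set G) := by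
    refine le_normalizer_of fun k hk x hx => ?_
    obtain ⟨hx, h3, h4⟩ := hx
    refine ⟨mul_mem (mul_mem hk hx) (inv_mem hk), fun f hf => ?_, fun f hf => ?_⟩
    · rw [hconj]
      refine conj_mem_of_mem (hHI hk) (h3 _ ?_)
      have h5 := conj_mem_of_mem (D.HU (inv_mem hk)) hf
      rwa [inv_inv] at h5
    · rw [hconj, h4 _ (by
        have h5 := conj_mem_of_mem (hHI (inv_mem hk)) hf
        rwa [inv_inv] at h5)]
      group
  have hKn : H ≤ normalizer ((H ⊓ centralizer (zl (S : Subgroup G) H : Set G) : Subgroup G) : Set G) := by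
    refine le_normalizer_of fun h hh x hx => mem_inf.mpr ⟨mul_mem (mul_mem hh (mem_inf.mp hx).1) (inv_mem hh), ?_⟩
    rw [mem_centralizer_iff]
    intro y hy
    have hy' : h⁻¹ * y * h ∈ zl (S : Subgroup G) H := by
      have h1 := conj_mem_of_mem (D.HU (inv_mem hh)) hy
      rwa [inv_inv] at h1
    have h1 := mem_centralizer_iff.mp (mem_inf.mp hx).2 _ hy'
    calc y * (h * x * h⁻¹) = h * ((h⁻¹ * y * h) * x) * h⁻¹ := by group
      _ = h * (x * (h⁻¹ * y * h)) * h⁻¹ := by rw [h1]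
      _ = h * x * h⁻¹ * y := by group
  have hle := le_sup_inf S (H := H) (M₀ := M₀) (K₀ := H ⊓ centralizer (zl (S : Subgroup G) H : Set G)) D.SH
    (fun x hx => hx.1) hM₀n inf_le_left hKn (by
      rintro x ⟨hx, h3, h4⟩
      refine mem_inf.mpr ⟨pow_mem hx 2, ?_⟩
      rw [mem_centralizer_iff]
      intro f hf
      have h5 := h3 f hf
      have h6 : cm x (cm x f) = 1 := h4 _ h5
      have h7 : x * cm x f = cm x f * x := by
        have h8 : cm x (cm x f) * (cm x f * x) = x * cm x f := by simp only [cm_def]; group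
        rw [← h8, h6, one_mul]
      have h9 := D.sqU (hI h5)
      have h10 : x * f = cm x f * f * x := by rw [cm_def]; group
      calc f * x ^ 2 = (cm x f * cm x f) * f * x * x := by rw [h9, pow_two]; group
        _ = cm x f * (cm x f * f * x) * x := by group
        _ = cm x f * (x * f) * x := by rw [← h10]
        _ = (cm x f * x) * f * x := by group
        _ = x * (cm x f * f * x) := by rw [← h7]; group
        _ = x * (x * f) := by rw [← h10]
        _ = x ^ 2 * f := by rw [pow_two]; group)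
  have hMZ : M₀ ≤ centralizer (zc (S : Subgroup G) : Set G) :=
    hle.trans (sup_le (inf_le_right.trans (centralizer_le (D.zcZ.trans D.ZU))) (inf_le_left.trans (le_CZ S)))
  have hMU : M₀ ≤ centralizer (zl (S : Subgroup G) H : Set G) := by
    rw [le_centralizer_iff]
    refine zl_le ?_ ?_
    · rw [le_centralizer_iff]; exact hMZ
    · refine le_normalizer_of fun k hk x hx => ?_
      rw [mem_centralizer_iff] at hx ⊢
      intro m hm
      have hm' : k⁻¹ * m * k ∈ M₀ := by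
        have h5 := conj_mem_of_mem (hM₀n (inv_mem hk)) hm
        rwa [inv_inv] at h5
      have h6 := hx _ hm'
      calc m * (k * x * k⁻¹) = k * ((k⁻¹ * m * k) * x) * k⁻¹ := by group
        _ = k * (x * (k⁻¹ * m * k)) * k⁻¹ := by rw [h6]
        _ = k * x * k⁻¹ * m := by group
  intro x hx
  have h3 := mem_centralizer_iff.mp (hMU ⟨hh, h1, h2⟩) x hx
  rw [cm_def, ← h3]
  group

omit [Finite G] D in
theorem cm_eq_one {x y : G} : cm x y = 1 ↔ x * y = y * x := by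
  rw [cm_def]
  constructor
  · intro h
    calc x * y = (x * y * x⁻¹ * y⁻¹) * (y * x) := by group
      _ = y * x := by rw [h, one_mul]
  · intro h
    rw [h]
    group

/-- **(TR)** for `h ∈ N` -/
theorem tr_N {h : G} (hh : h ∈ NN (S : Subgroup G) P H)
    (h1 : ∀ x ∈ zl (S : Subgroup G) H, cm h x ∈ Rr (S : Subgroup G) P H) :
    ∀ x ∈ zl (S : Subgroup G) H, cm h x = 1 :=
  D.triv D.RU D.HR (D.NN_le_H hh) h1 fun _ hx => cm_eq_one.mpr (mem_centralizer_iff.mp (mem_inf.mp hx).2 h hh)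

/-- **(TR)** for `h ∈ H` which centralises `Zp` -/
theorem tr_Z {h : G} (hhH : h ∈ H) (hhZ : h ∈ centralizer (Zp : Set G))
    (h1 : ∀ x ∈ zl (S : Subgroup G) H, cm h x ∈ Rr (S : Subgroup G) P H) :
    ∀ x ∈ zl (S : Subgroup G) H, cm h x = 1 := by
  -- `A₀`: the elements centralised by `h`
  set A₀ : Subgroup G := zl (S : Subgroup G) H ⊓ centralizer ({h} : Set G) with hA₀
  have hcm : ∀ n ∈ NN (S : Subgroup G) P H, ∀ x ∈ zl (S : Subgroup G) H, cm (cm h n) x = 1 := by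
    intro n hn
    have h2 : cm h n ∈ NN (S : Subgroup G) P H := by
      rw [cm_def]
      exact mul_mem (conj_mem_of_mem (le_normalizer_NN _ _ _ hhH) hn) (inv_mem hn)
    refine D.tr_N h2 ?_
    -- the elements acting trivially on `U / R`
    intro x hx
    have hR : ∀ {a y : G}, a ∈ H → y ∈ Rr (S : Subgroup G) P H → a * y * a⁻¹ ∈ Rr (S : Subgroup G) P H :=
      fun ha hy => conj_mem_of_mem (D.HR ha) hy
    have hnH := D.NN_le_H hn
    have hU : ∀ {a y : G}, a ∈ H → y ∈ zl (S : Subgroup G) H → a * y * a⁻¹ ∈ zl (S : Subgroup G) H :=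
      fun ha hy => conj_mem_of_mem (D.HU ha) hy
    -- `[h n h⁻¹ n⁻¹, x]`
    have e1 : cm (cm h n) x = (h * (n * cm h⁻¹ (n⁻¹ * x * n) * n⁻¹) * h⁻¹) * cm h x := by
      simp only [cm_def]; group
    have h3 : n⁻¹ * x * n ∈ zl (S : Subgroup G) H := by
      have := hU (inv_mem hnH) hx
      rwa [inv_inv] at this
    have h4 : cm h⁻¹ (n⁻¹ * x * n) ∈ Rr (S : Subgroup G) P H := by
      have e2 : cm h⁻¹ (n⁻¹ * x * n) = h⁻¹ * (cm h (n⁻¹ * x * n))⁻¹ * h⁻¹⁻¹ := by simp only [cm_def]; group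
      rw [e2]
      exact hR (inv_mem hhH) (inv_mem (h1 _ h3))
    rw [e1]
    exact mul_mem (hR hhH (hR hnH h4)) (h1 x hx)
  -- `[n, x] ∈ A₀`
  have h2 : ∀ n ∈ NN (S : Subgroup G) P H, ∀ x ∈ zl (S : Subgroup G) H, h * cm n x = cm n x * h := by
    intro n hn x hx
    have hnH := D.NN_le_H hn
    have hU : ∀ {a y : G}, a ∈ H → y ∈ zl (S : Subgroup G) H → a * y * a⁻¹ ∈ zl (S : Subgroup G) H :=
      fun ha hy => conj_mem_of_mem (D.HU ha) hy
    -- `h (n x n⁻¹) h⁻¹ = n (h x h⁻¹) n⁻¹` up to `C(U)`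
    have hx' := hU (mul_mem hnH hhH) hx
    have h3 : cm (cm h n) (n * h * x * (n * h)⁻¹) = 1 := hcm n hn _ hx'
    have h4 : h * (n * x * n⁻¹) * h⁻¹ = n * (h * x * h⁻¹) * n⁻¹ := by
      have h5 := cm_eq_one.mp h3
      calc h * (n * x * n⁻¹) * h⁻¹ = (cm h n) * (n * h * x * (n * h)⁻¹) * (cm h n)⁻¹ := by
            simp only [cm_def]; group
        _ = (n * h * x * (n * h)⁻¹) * (cm h n) * (cm h n)⁻¹ := by rw [h5]
        _ = n * (h * x * h⁻¹) * n⁻¹ := by group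
    -- `n` centralises `[h, x] ∈ R`
    have h6 : n * cm h x * n⁻¹ = cm h x := by
      rw [mem_centralizer_iff.mp (mem_inf.mp (h1 x hx)).2 n hn, mul_inv_cancel_right]
    have h7 : n * (h * x * h⁻¹) * n⁻¹ = cm h x * (n * x * n⁻¹) := by
      calc n * (h * x * h⁻¹) * n⁻¹ = (n * cm h x * n⁻¹) * (n * x * n⁻¹) := by simp only [cm_def]; group
        _ = cm h x * (n * x * n⁻¹) := by rw [h6]
    have e8 : h * x * h⁻¹ = cm h x * x := by rw [cm_def]; group
    have hnx : n * x * n⁻¹ ∈ zl (S : Subgroup G) H := hU hnH hx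
    have hc : cm h x ∈ zl (S : Subgroup G) H := D.RU (h1 x hx)
    have h9 : h * cm n x * h⁻¹ = cm n x := by
      calc h * cm n x * h⁻¹ = (h * (n * x * n⁻¹) * h⁻¹) * (h * x * h⁻¹)⁻¹ := by simp only [cm_def]; group
        _ = (cm h x * (n * x * n⁻¹)) * (cm h x * x)⁻¹ := by rw [h4, h7, e8]
        _ = ((n * x * n⁻¹) * cm h x) * (cm h x * x)⁻¹ := by rw [D.commU hc hnx]
        _ = n * x * n⁻¹ * (cm h x * x⁻¹) * (cm h x)⁻¹ := by rw [mul_inv_rev]; group
        _ = n * x * n⁻¹ * (x⁻¹ * cm h x) * (cm h x)⁻¹ := by rw [D.commU hc (inv_mem hx)]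
        _ = cm n x := by rw [cm_def n x]; group
    calc h * cm n x = (h * cm n x * h⁻¹) * h := by group
      _ = cm n x * h := by rw [h9]
  -- `U ≤ A₀`
  have hZA : Zp ≤ A₀ := by
    intro z hz
    refine mem_inf.mpr ⟨D.ZU hz, ?_⟩
    rw [mem_centralizer_iff]
    rintro _ rfl
    exact (mem_centralizer_iff.mp hhZ z hz).symm
  have hA : ∀ z ∈ zc (S : Subgroup G), ∀ k ∈ H, k * z * k⁻¹ ∈ A₀ := by
    intro z hz k hk
    obtain ⟨n, hn, c, hc, rfl⟩ := D.exists_nb hk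
    have hz' : c * z * c⁻¹ ∈ Zp := conj_mem_of_mem (D.BZ hc) (D.zcZ hz)
    have e1 : n * c * z * (n * c)⁻¹ = cm n (c * z * c⁻¹) * (c * z * c⁻¹) := by
      rw [cm_def]; group
    rw [e1]
    refine mul_mem (mem_inf.mpr ⟨?_, ?_⟩) (hZA hz')
    · have e2 : cm n (c * z * c⁻¹) = (n * (c * z * c⁻¹) * n⁻¹) * (c * z * c⁻¹)⁻¹ := by rw [cm_def]
      rw [e2]
      exact mul_mem (conj_mem_of_mem (D.HU (D.NN_le_H hn)) (D.ZU hz')) (inv_mem (D.ZU hz'))
    · rw [mem_centralizer_iff]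
      rintro _ rfl
      exact h2 n hn _ (D.ZU hz')
  intro x hx
  have hUA : zl (S : Subgroup G) H ≤ A₀ := NoFF.Basic.V_le (Z := zc (S : Subgroup G)) fun k hk y hy => by
    rw [mem_conj] at hy
    have h3 := hA _ hy k hk
    have e1 : k * (k⁻¹ * y * k) * k⁻¹ = y := by group
    rwa [e1] at h3
  exact cm_eq_one.mpr (mem_centralizer_iff.mp (mem_inf.mp (hUA hx)).2 h rfl)

end HypF

end Cfsg.Agent.Omega.NOThreeL.RFEnd
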