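import Cfsg.Agent.Omega.NOThreeL.RFEnd.Many
import Cfsg.Agent.Omega.NOThreeL.RBig.Dich
import Cfsg.Agent.Omega.NOThreeL.RF.End

/-!
# NO-3L, `R ∩ (A)`, `k = 1`, nonsplit, fields (NsF), (f) END (7)

`K = V C(U)`.

* `HypF.W0` : `⟨V_{P₁}^{⟨P, C⟩}⟩ ≤ V C(U)` (by (Q)); `HypF.good_act` : `⟨V^{C_G(z)}⟩ ≤ V C(U)` for `z ∈ Z(S) - Rp`;
* **`HypF.conj_V`** : `V^{p₁⁻¹} ≤ V C(U)` for `p₁ ∈ P₁ ∈ P*(S)`, `P₁ ≤ H`;
* **`HypF.false_of_QP`** : (Q) and ONE AXIS give a contradiction.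
-/

set_option autoImplicit false
set_option linter.unusedSectionVars false

namespace Cfsg.Agent.Omega.NOThreeL.RFEnd

open Subgroup Cfsg Cfsg.Agent.Omega.MinPar
open Cfsg.Agent.ZN (zc zl o2)
open Cfsg.Agent.Omega.Frame Cfsg.Agent.Omega.FrameNOFF
open Cfsg.Agent.Omega.Node.NO3L Cfsg.Agent.Omega.NOThreeL.Basic
open Cfsg.Agent.Omega.NoFF.Basic (V conj_conj mem_conj conj_le_iff conj_le_centralizer comm_symm comm_mono
  Z_le_V V_le conj_V_mul)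
open Cfsg.Agent.Omega.NOThreeL.Pair (conj_eq_of_mem conj_le_normalizer zl_abel)
open Cfsg.Agent.MinSimple.VModule (zl_le zc_le_zl le_normalizer_zl zc_le o2_isPGroup le_normalizer_o2 le_o2 o2_le
  normalizer_le_normalizer_zc mem_zc)
open Cfsg.Agent.Omega.NOThreeL.RTools (cm cm_def cm_mul NN conj_mem_of_mem conj_le_NN le_NN NN_le le_normalizer_NN)
open Cfsg.Agent.Omega.NOThreeL.RBig.Pts (Mv Frame Out)
open Cfsg.Agent.Omega.NOThreeL.RA (Yy Rr Opp Md img)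
open Cfsg.Agent.Omega.NOThreeL.RF.End (QPV)
open Cfsg.Agent.Omega.NOThreeL.RA.End (zl_mono exists_mul_of_mem_sup le_normalizer_centralizer)
open Cfsg.Agent.Lib.SL2Mat
open Cfsg.Agent.Omega.NatPair (ap ap_mul ap_one ap_inv_ap)
open scoped Pointwise commutatorElement

universe u

variable {G : Type u} [Group G]

namespace HypF

variable [Finite G] {F : Type} [Field F] {e : G → Fin 2 → F} {S : Sylow 2 G} {P H Zp Rp Dp B : Subgroup G}
  (D : HypF e S P H Zp Rp Dp B)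
include D

/-! ### coordinates -/

theorem e_inv {v : G} (hv : v ∈ zl (S : Subgroup G) P) : e v⁻¹ = e v := by rw [D.inv_V hv]

/-- `e : Rp → F × 0` is onto -/
theorem exists_Rp (x : F) : ∃ f ∈ Rp, e f = ![x, 0] := by
  obtain ⟨v, hv, hev⟩ := D.surj ![x, 0]
  have hvZ : v ∈ Zp := (D.line v hv).1 (by rw [hev]; rfl)
  have hn : Rp ≤ normalizer (Dp : Set G) := (D.RV.trans (D.VS.trans D.SP)).trans D.PD
  obtain ⟨f, hf, d, hd, rfl⟩ := exists_mul_of_mem_sup hn (D.ZRD hvZ)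
  refine ⟨f, hf, ?_⟩
  rw [← hev, D.mul f (D.RV hf) d (D.ZV (D.DZ hd)), (D.ker d (D.ZV (D.DZ hd))).2 hd, add_zero]

theorem exists_rho : ∃ r ∈ P, ∀ y ∈ zl (S : Subgroup G) P, e (r * y * r⁻¹) = ![e y 0, e y 0 + e y 1] := by
  obtain ⟨r, hr, hA⟩ := D.lift (lo 1)
  exact ⟨r, hr, fun y hy => by rw [hA y hy, RAOne.ap_lo', one_mul]⟩

/-- `V = Zp Rp^r` -/
theorem split_V {r : G} (hr : r ∈ P) (h : ∀ y ∈ zl (S : Subgroup G) P, e (r * y * r⁻¹) = ![e y 0, e y 0 + e y 1])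
    {v : G} (hv : v ∈ zl (S : Subgroup G) P) : ∃ z ∈ Zp, ∃ f ∈ Rp, v = z * (r * f * r⁻¹) := by
  obtain ⟨f, hf, hef⟩ := D.exists_Rp (e v 1)
  have h1 : r * f * r⁻¹ ∈ zl (S : Subgroup G) P := conj_mem_of_mem (D.PV hr) (D.RV hf)
  refine ⟨v * (r * f * r⁻¹)⁻¹, ?_, f, hf, by group⟩
  refine (D.line _ (mul_mem hv (inv_mem h1))).1 ?_
  rw [D.mul v hv _ (inv_mem h1), D.e_inv h1, h f (D.RV hf), hef]
  change e v 1 + (e v 1 + 0) = 0
  rw [add_zero, D.two_eq]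

/-- `[v, U] D = Zp` for `v ∈ V - Zp` -/
theorem full {v z : G} (hv : v ∈ zl (S : Subgroup G) P) (hvZ : v ∉ Zp) (hz : z ∈ Zp) :
    ∃ u ∈ zl (S : Subgroup G) H, cm v u * z ∈ Dp := by
  have h0 : e v 1 ≠ 0 := fun h => hvZ ((D.line v hv).1 h)
  obtain ⟨u, hu, hb⟩ := D.up2 (e z 0 * (e v 1)⁻¹)
  have h1 := D.cm_VP hv (D.UP hu)
  refine ⟨u, hu, (D.ker _ (mul_mem h1 (D.ZV hz))).1 ?_⟩
  rw [D.mul _ h1 _ (D.ZV hz), D.e_cm hv (D.UP hu) hb]
  funext i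
  fin_cases i
  · change e z 0 * (e v 1)⁻¹ * e v 1 + e z 0 = 0
    rw [inv_mul_cancel_right₀ h0, D.two_eq]
  · change 0 + e z 1 = 0
    rw [D.ZV_P hz, add_zero]

/-! ### `K = V C(U)` -/

theorem VN : zl (S : Subgroup G) P ≤ normalizer (centralizer (zl (S : Subgroup G) H : Set G) : Set G) :=
  le_normalizer_centralizer (D.VH.trans D.HU)

/-- `B` normalises `K` -/
theorem BK : B ≤ normalizer ((zl (S : Subgroup G) P ⊔ centralizer (zl (S : Subgroup G) H : Set G) : Subgroup G) :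
    Set G) := by
  intro b hb
  refine RTransv.mem_normalizer_of_conj ?_
  rw [Subgroup.smul_sup, conj_eq_of_mem (D.PV (D.BP hb)),
    conj_eq_of_mem (le_normalizer_centralizer D.HU (D.BH hb))]

/-- The lines commute. -/
theorem line_comm {P₁ : Subgroup G} (h₁ : IsParS (S : Subgroup G) P₁) :
    zl (S : Subgroup G) P₁ ≤ centralizer (zl (S : Subgroup G) P : Set G) := by
  have D' := Basic.geo D.hc D.data
  have h := D'.noff' h₁ D.par (g := 1) (h := 1) (by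
    rw [map_one, one_smul, one_smul]
    exact (IsParS.zl_le_S D.hc h₁).trans D.SP) (by
    rw [map_one, one_smul, one_smul]
    exact D.VS.trans h₁.le)
  rw [map_one, one_smul, one_smul] at h
  exact h

/-- `⟨V_{P₁}^L⟩`, `L` long, `V_{P₁} ≤ O₂(L)`: abelian, so it is in `K` by (Q). -/
theorem act_of_le (hQ : QPV (S : Subgroup G) P H) {L P₁ : Subgroup G} (hL : IsLong (S : Subgroup G) L)
    (h₁ : IsParS (S : Subgroup G) P₁) (h3 : zl (S : Subgroup G) P₁ ≤ o2 L) (hV : zl (S : Subgroup G) P ≤ o2 L)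
    {l y : G} (hl : l ∈ L) (hy : y ∈ zl (S : Subgroup G) P₁) :
    l * y * l⁻¹ ∈ zl (S : Subgroup G) P ⊔ centralizer (zl (S : Subgroup G) H : Set G) := by
  have h4 : V (zl (S : Subgroup G) P₁) L ≤ o2 L := by
    refine V_le fun x hx => ?_
    have h5 := (conj_le_iff (g := x)).2 h3
    rwa [conj_eq_of_mem (le_normalizer_o2 _ hx)] at h5
  have h6 : L ≤ normalizer (V (zl (S : Subgroup G) P₁) L : Set G) := by
    intro g hg
    refine RTransv.mem_normalizer_of_conj ?_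
    have := conj_V_mul (Z := zl (S : Subgroup G) P₁) (g := 1) hg
    rwa [one_mul, map_one, one_smul] at this
  have D' := Basic.geo D.hc D.data
  have hSL : ∀ x ∈ L, MulAut.conj x • zl (S : Subgroup G) P₁ ≤ o2 L := fun x hx => by
    have h5 := (conj_le_iff (g := x)).2 h3
    rwa [conj_eq_of_mem (le_normalizer_o2 _ hx)] at h5
  have hLP : ∀ x ∈ L, o2 L ≤ MulAut.conj x • P₁ := fun x hx => by
    rw [← conj_eq_of_mem (le_normalizer_o2 L hx)]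
    exact conj_le_iff.2 ((hL.loc.o2_le S).trans h₁.le)
  have h7 : V (zl (S : Subgroup G) P₁) L ≤ centralizer (V (zl (S : Subgroup G) P₁) L : Set G) := by
    refine V_le fun x hx => comm_symm (V_le fun x' hx' => comm_symm ?_)
    exact D'.noff' h₁ h₁ ((hSL x hx).trans (hLP x' hx')) ((hSL x' hx').trans (hLP x hx))
  have h8 : V (zl (S : Subgroup G) P₁) L ≤ centralizer (zl (S : Subgroup G) P : Set G) := by
    refine V_le fun x hx => ?_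
    have h9 := D'.noff' h₁ D.par (g := x) (h := 1) (by
        rw [map_one, one_smul]
        exact (hSL x hx).trans ((hL.loc.o2_le S).trans D.SP)) (by
        rw [map_one, one_smul]
        exact hV.trans (hLP x hx))
    rwa [map_one, one_smul] at h9
  refine hQ _ (h4.trans (hL.o2_le S)) (hL.cz.trans h6) h7 h8 (Z_le_V (Z := zl (S : Subgroup G) P₁) hl ?_)
  rw [mem_conj]
  simpa [mul_assoc] using hy

/-- `W₀ = ⟨V_{P₁}^L⟩`, `L = ⟨P, C⟩`: all its elements act on `U` as elements of `V`. -/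
theorem W0 (hQ : QPV (S : Subgroup G) P H) {P₁ : Subgroup G} (h₁ : IsParS (S : Subgroup G) P₁) (hH : P₁ ≤ H) {y l : G}
    (hy : y ∈ zl (S : Subgroup G) P₁) (hl : l ∈ P ⊔ CZ (S : Subgroup G)) :
    l * y * l⁻¹ ∈ zl (S : Subgroup G) P ⊔ centralizer (zl (S : Subgroup G) H : Set G) := by
  have hL : IsLong (S : Subgroup G) (P ⊔ CZ (S : Subgroup G)) := D.data.loc P D.par
  have hUU : zl (S : Subgroup G) P₁ ≤ zl (S : Subgroup G) H := zl_mono hH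
  -- `V ⊔ C(U)` centralises `V_{P₁}`
  have h2 : zl (S : Subgroup G) P ⊔ centralizer (zl (S : Subgroup G) H : Set G) ≤
      centralizer (zl (S : Subgroup G) P₁ : Set G) :=
    sup_le (comm_symm (D.line_comm h₁)) (centralizer_le hUU)
  have hU : zl (S : Subgroup G) (P ⊔ CZ (S : Subgroup G)) ≤ centralizer (zl (S : Subgroup G) P₁ : Set G) :=
    (hQ _ ((hL.zl_le_o2 D.hc S).trans (hL.o2_le S)) (hL.cz.trans (le_normalizer_zl _ _))
      (zl_abel D.hc S hL.loc).1 ((zl_abel D.hc S hL.loc).1.trans (centralizer_le (zl_mono le_sup_left)))).trans h2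
  have h3 : zl (S : Subgroup G) P₁ ≤ o2 (P ⊔ CZ (S : Subgroup G)) :=
    le_o2_of_comm (D.data.low P₁ h₁) hL (comm_symm hU)
  exact D.act_of_le hQ hL h₁ h3 ((zl_mono le_sup_left).trans (hL.zl_le_o2 D.hc S)) hl hy

/-- `⟨V^{C_G(z)}⟩ ≤ V C(U)` for `z ∈ Z(S) - Rp` -/
theorem good_act (hQ : QPV (S : Subgroup G) P H) {z g v : G} (hz : z ∈ zc (S : Subgroup G)) (hzR : z ∉ Rp)
    (hg : g ∈ centralizer ({z} : Set G)) (hv : v ∈ zl (S : Subgroup G) P) :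
    g * v * g⁻¹ ∈ zl (S : Subgroup G) P ⊔ centralizer (zl (S : Subgroup G) H : Set G) := by
  have hz1 : z ≠ 1 := fun h => hzR (h ▸ one_mem _)
  have hC : CZ (S : Subgroup G) ≤ centralizer ({z} : Set G) :=
    centralizer_le (Set.singleton_subset_iff.2 hz)
  have hL : IsLong (S : Subgroup G) (centralizer ({z} : Set G)) :=
    ⟨isLoc_centralizer S (mem_zc.1 hz).2.2 hz1 ((le_CZ S).trans hC), hC⟩
  exact D.act_of_le hQ hL D.par (D.good z hz hzR) (D.good z hz hzR) hg hv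

/-- **The main step**: `V^{p₁⁻¹} ≤ V C(U)`. -/
theorem conj_V (hQ : QPV (S : Subgroup G) P H) {P₁ : Subgroup G} (h₁ : IsParS (S : Subgroup G) P₁) (hH : P₁ ≤ H)
    {p₁ : G} (hp : p₁ ∈ P₁) {v : G} (hv : v ∈ zl (S : Subgroup G) P) :
    p₁⁻¹ * v * p₁ ∈ zl (S : Subgroup G) P ⊔ centralizer (zl (S : Subgroup G) H : Set G) := by
  obtain ⟨r, hr, hrho⟩ := D.exists_rho
  have hUab := (zl_abel D.hc S D.loc).1
  have hpH : p₁ ∈ H := hH hp
  obtain ⟨z₀, hz₀', hz₀1⟩ := D.eps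
  obtain ⟨hz₀, hz₀D⟩ := mem_inf.1 hz₀'
  -- `y = p₁ z₀ p₁⁻¹`
  have hyP : p₁ * z₀ * p₁⁻¹ ∈ zl (S : Subgroup G) P₁ :=
    conj_mem_of_mem (le_normalizer_zl _ _ hp) (zc_le_zl _ _ hz₀)
  have h1 := D.W0 hQ h₁ hH hyP (mem_sup_left hr : r ∈ P ⊔ CZ (S : Subgroup G))
  have hVC := D.VN
  obtain ⟨v₁, hv₁, c, hcU, e1⟩ := exists_mul_of_mem_sup hVC h1
  -- `V ≤ Zp Rp^r`
  obtain ⟨z, hz, f, hf, e2⟩ := D.split_V hr hrho hv₁
  set x := p₁ * z₀ * p₁⁻¹ * f⁻¹ with hx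
  -- `x = p₁ z' p₁⁻¹`
  set z' := z₀ * (p₁⁻¹ * f⁻¹ * p₁) with hz'
  have ex : x = p₁ * z' * p₁⁻¹ := by rw [hx, hz']; group
  have hf₁ : p₁⁻¹ * f⁻¹ * p₁ ∈ Rp := D.Rp_conj' (inv_mem hf) hpH
  have hz'R : z' ∉ Rp := by
    intro h0
    have h2 : z₀ ∈ Rp := by
      have h3 := mul_mem h0 (inv_mem hf₁)
      have e3 : z' * (p₁⁻¹ * f⁻¹ * p₁)⁻¹ = z₀ := by rw [hz']; group
      rwa [e3] at h3
    have h3 : z₀ ∈ Rp ⊓ Dp := mem_inf.2 ⟨h2, hz₀D⟩
    rw [D.RD, mem_bot] at h3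
    exact hz₀1 h3
  obtain ⟨p, hpB, hpz⟩ := D.tor z' (mul_mem (mem_sup_left hz₀') (mem_sup_right hf₁))
  have hpzR : p * z' * p⁻¹ ∉ Rp := by
    intro h0
    have h2 := D.Rp_conj' h0 (D.BH hpB)
    have e3 : p⁻¹ * (p * z' * p⁻¹) * p = z' := by group
    rw [e3] at h2
    exact hz'R h2
  -- `r x r⁻¹` centralises `U`
  have hrV : r * f * r⁻¹ ∈ zl (S : Subgroup G) P := conj_mem_of_mem (D.PV hr) (D.RV hf)
  have hrx : r * x * r⁻¹ ∈ centralizer (zl (S : Subgroup G) H : Set G) := by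
    have h3 : r * x * r⁻¹ = z * ((r * f * r⁻¹) * c * (r * f * r⁻¹)⁻¹) := by
      calc r * x * r⁻¹ = (r * (p₁ * z₀ * p₁⁻¹) * r⁻¹) * (r * f * r⁻¹)⁻¹ := by rw [hx]; group
        _ = _ := by rw [e1, e2]; group
    rw [h3]
    exact mul_mem (hUab (D.ZU hz)) ((mem_normalizer_iff.1 (hVC hrV) c).1 hcU)
  have hU'x : ∀ u ∈ zl (S : Subgroup G) H, (r⁻¹ * u * r) * x = x * (r⁻¹ * u * r) := fun u hu => by
    have h3 := mem_centralizer_iff.1 hrx u hu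
    have h4 := congrArg (fun t => r⁻¹ * t * r) h3
    simpa [mul_assoc] using h4
  set K := zl (S : Subgroup G) P ⊔ centralizer (zl (S : Subgroup G) H : Set G) with hK
  -- the elements `g f' g⁻¹`
  have hX : ∀ g : G, g * x = x * g → ∀ f' ∈ Rp, p₁⁻¹ * (g * f' * g⁻¹) * p₁ ∈ K := by
    intro g hg f' hf'
    set g₁ := p₁⁻¹ * g * p₁ with hg₁
    have h3 : g₁ * z' = z' * g₁ := by
      rw [ex] at hg
      have h4 := congrArg (fun t => p₁⁻¹ * t * p₁) hg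
      calc p₁⁻¹ * g * p₁ * z' = p₁⁻¹ * (g * (p₁ * z' * p₁⁻¹)) * p₁ := by group
        _ = p₁⁻¹ * (p₁ * z' * p₁⁻¹ * g) * p₁ := h4
        _ = z' * g₁ := by rw [hg₁]; group
    have h4 : p * g₁ * p⁻¹ ∈ centralizer ({p * z' * p⁻¹} : Set G) := by
      rw [mem_centralizer_singleton_iff]
      calc p * g₁ * p⁻¹ * (p * z' * p⁻¹) = p * (g₁ * z') * p⁻¹ := by group
        _ = p * (z' * g₁) * p⁻¹ := by rw [h3]
        _ = _ := by group
    have hf₂ : p₁⁻¹ * f' * p₁ ∈ Rp := D.Rp_conj' hf' hpH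
    have hf₃ : p * (p₁⁻¹ * f' * p₁) * p⁻¹ ∈ Rp := D.Rp_conj hf₂ (D.BH hpB)
    have h5 := D.good_act hQ hpz hpzR h4 (D.RV hf₃)
    have h6 := conj_mem_of_mem (D.BK (inv_mem hpB)) h5
    have e3 : p⁻¹ * (p * g₁ * p⁻¹ * (p * (p₁⁻¹ * f' * p₁) * p⁻¹) * (p * g₁ * p⁻¹)⁻¹) * p⁻¹⁻¹ =
        p₁⁻¹ * (g * f' * g⁻¹) * p₁ := by
      rw [hg₁]; group
    rwa [e3] at h6
  -- `Zp`
  have hZ : ∀ z₁ ∈ Zp, p₁⁻¹ * z₁ * p₁ ∈ K := fun z₁ hz₁ =>
    mem_sup_right (hUab (D.U_conj hpH (D.ZU hz₁)))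
  have hXm : ∀ {a b : G}, p₁⁻¹ * a * p₁ ∈ K → p₁⁻¹ * b * p₁ ∈ K → p₁⁻¹ * (a * b) * p₁ ∈ K := by
    intro a b ha hb
    have := mul_mem ha hb
    have e7 : p₁⁻¹ * (a * b) * p₁ = p₁⁻¹ * a * p₁ * (p₁⁻¹ * b * p₁) := by group
    rwa [e7]
  have hXi : ∀ {a : G}, p₁⁻¹ * a * p₁ ∈ K → p₁⁻¹ * a⁻¹ * p₁ ∈ K := by
    intro a ha
    have := inv_mem ha
    have e7 : p₁⁻¹ * a⁻¹ * p₁ = (p₁⁻¹ * a * p₁)⁻¹ := by group
    rwa [e7]
  -- `f' ∈ Rp - Dp`
  obtain ⟨f', hf', hef'⟩ := D.exists_Rp 1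
  have hrf'V : r * f' * r⁻¹ ∈ zl (S : Subgroup G) P := conj_mem_of_mem (D.PV hr) (D.RV hf')
  have hrf' : r * f' * r⁻¹ ∉ Zp := by
    intro h0
    have h2 := D.ZV_P h0
    rw [hrho f' (D.RV hf'), hef'] at h2
    have h3 : (1 : F) + 0 = 0 := h2
    rw [add_zero] at h3
    exact one_ne_zero h3
  have hZ' : ∀ z₁ ∈ Zp, p₁⁻¹ * (r⁻¹ * z₁ * r) * p₁ ∈ K := by
    intro z₁ hz₁
    obtain ⟨u, hu, hd⟩ := D.full hrf'V hrf' hz₁
    set d := cm (r * f' * r⁻¹) u * z₁ with hddef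
    have hd' : r⁻¹ * d * r ∈ Dp := by
      have h2 := conj_mem_of_mem (D.PD (inv_mem hr)) hd
      rwa [inv_inv] at h2
    have h5 : r⁻¹ * z₁ * r = (((r⁻¹ * u * r) * f' * (r⁻¹ * u * r)⁻¹) * f'⁻¹) * (r⁻¹ * d * r) := by
      rw [hddef, cm_def]; group
    rw [h5]
    exact hXm (hXm (hX _ (hU'x u hu) f' hf') (hXi (hZ f' (D.RZ hf')))) (hZ _ (D.DZ hd'))
  -- `V = Zp Rp^{r}`; conjugate by `r⁻¹`
  have hv' : r * v * r⁻¹ ∈ zl (S : Subgroup G) P := conj_mem_of_mem (D.PV hr) hv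
  obtain ⟨z₁, hz₁, f₂, hf₂, e4⟩ := D.split_V hr hrho hv'
  have e5 : v = (r⁻¹ * z₁ * r) * f₂ := by
    calc v = r⁻¹ * (r * v * r⁻¹) * r := by group
      _ = _ := by rw [e4]; group
  rw [e5]
  exact hXm (hZ' z₁ hz₁) (hZ f₂ (D.RZ hf₂))

/-- `P₁ ∈ P*(S)`, `P₁ ≤ H`: `P₁` normalises `Zp` -/
theorem conj_Zp (hQ : QPV (S : Subgroup G) P H) {P₁ : Subgroup G} (h₁ : IsParS (S : Subgroup G) P₁) (hH : P₁ ≤ H)
    {p₁ : G} (hp : p₁ ∈ P₁) : MulAut.conj p₁ • Zp = Zp := by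
  have hVC := D.VN
  -- `[U, V] ≤ Zp`
  have hUVZ : ⁅zl (S : Subgroup G) H, zl (S : Subgroup G) P⁆ ≤ Zp := by
    refine commutator_le.2 fun u hu v hv => ?_
    have h1 := D.VU_Z hv hu
    have e1 : ⁅u, v⁆ = (cm v u)⁻¹ := by rw [commutatorElement_def, cm_def]; group
    rw [e1]
    exact inv_mem h1
  have key : ∀ p₁ ∈ P₁, MulAut.conj p₁⁻¹ • Zp ≤ Zp := by
    intro p₁ hp
    have h1 := (conj_le_iff (g := p₁⁻¹)).2 D.ZUV
    rw [Subgroup.smul_sup, conj_eq_of_mem (D.HRp (inv_mem (hH hp)))] at h1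
    refine h1.trans (sup_le ?_ D.RZ)
    have h2 : MulAut.conj p₁⁻¹ • ⁅zl (S : Subgroup G) H, zl (S : Subgroup G) P⁆ ≤
        ⁅zl (S : Subgroup G) H, zl (S : Subgroup G) P⁆ := by
      have h3 : MulAut.conj p₁⁻¹ • ⁅zl (S : Subgroup G) H, zl (S : Subgroup G) P⁆ =
          ⁅MulAut.conj p₁⁻¹ • zl (S : Subgroup G) H, MulAut.conj p₁⁻¹ • zl (S : Subgroup G) P⁆ :=
        map_commutator _ _ _
      rw [h3, conj_eq_of_mem (le_normalizer_zl _ _ (inv_mem (hH hp))), commutator_le]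
      intro u hu w hw
      rw [mem_conj, inv_inv] at hw
      have h4 := D.conj_V hQ h₁ hH hp hw
      have h5 : p₁⁻¹ * (p₁ * w * p₁⁻¹) * p₁ = w := by group
      rw [h5] at h4
      obtain ⟨v, hv, c, hcU, rfl⟩ := exists_mul_of_mem_sup hVC h4
      have h6 : ⁅u, v * c⁆ = ⁅u, v⁆ := by
        have h7 : c * u⁻¹ = u⁻¹ * c := (mem_centralizer_iff.1 hcU _ (inv_mem hu)).symm
        calc ⁅u, v * c⁆ = u * v * (c * u⁻¹) * c⁻¹ * v⁻¹ := by rw [commutatorElement_def]; group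
          _ = ⁅u, v⁆ := by rw [h7, commutatorElement_def]; group
      rw [h6]
      exact commutator_mem_commutator hu hv
    exact h2.trans hUVZ
  refine le_antisymm ?_ ?_
  · have := key p₁⁻¹ (inv_mem hp)
    rwa [inv_inv] at this
  · have h1 := (conj_le_iff (g := p₁)).2 (key p₁ hp)
    rwa [conj_conj, mul_inv_cancel, map_one, one_smul] at h1

variable {M Γ : Type*} [AddCommGroup M] [Group Γ] [DistribMulAction Γ M] {ρ : ↥H →* Γ} {π : G → M}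
  (Q : Md (zl (S : Subgroup G) H) (Rr (S : Subgroup G) P H) H ρ π)

include Q

/-- `H` cannot fix the point `e` -/
theorem not_fix (hle : ∀ h ∈ H, img π (MulAut.conj h • Zp) = img π Zp) : False := by
  have Fr := D.frame Q
  have heP := e_mem π Zp H
  obtain ⟨r, hr, hm⟩ := Fr.exists_mv heP
  obtain ⟨h, hh, rfl⟩ := hr
  rw [hle h hh] at hm
  obtain ⟨v, hv, x, hx, hne⟩ := hm
  exact hne (Fr.triv _ heP v hv x hx)

/-- **(7)** -/
theorem false_of_QP (hQ : QPV (S : Subgroup G) P H)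
    (O : Out (Pt π Zp H) (VV ρ π Zp (S : Subgroup G) P) (img π Zp)) : False := by
  refine D.not_fix Q fun h hh => ?_
  have hle : H ≤ (Subgroup.comap ρ (MulAction.stabilizer Γ (img π Zp))).map H.subtype := by
    have key : ∀ {g : G} (hgH : g ∈ H), img π (MulAut.conj g • Zp) = img π Zp →
        g ∈ (Subgroup.comap ρ (MulAction.stabilizer Γ (img π Zp))).map H.subtype := by
      intro g hgH h1
      refine ⟨⟨g, hgH⟩, ?_, rfl⟩
      change ρ ⟨g, hgH⟩ • img π Zp = img π Zp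
      rw [D.smul_img Q hgH D.ZU]
      exact h1
    have hz : ∀ {g : G}, g ∈ H → g ∈ normalizer (zc (S : Subgroup G) : Set G) →
        g ∈ (Subgroup.comap ρ (MulAction.stabilizer Γ (img π Zp))).map H.subtype := by
      intro g hgH hgN
      refine key hgH ?_
      by_contra hne
      obtain ⟨x, hx, hx1⟩ := D.eps
      obtain ⟨hxz, hxD⟩ := mem_inf.1 hx
      have h2 := O.disj _ (mem_Pt hgH) _ (e_mem π Zp H) hne
      have h3 : π (g * x * g⁻¹) ∈ img π (MulAut.conj g • Zp) ⊓ img π Zp :=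
        AddSubgroup.mem_inf.2 ⟨Md.pi_mem (D.conj_mem_conj' (D.zcZ hxz)), Md.pi_mem (D.zcZ (conj_mem_of_mem hgN hxz))⟩
      rw [h2, AddSubgroup.mem_bot] at h3
      exact D.conj_eps hgH hxD hx1 ((D.pi_eq_zero Q hgH (D.conj_mem_conj' (D.zcZ hxz))).1 h3)
    refine IsLoc.le_of_forall S D.loc (fun g hg => ?_) fun P₁ h₁ hH g hg => ?_
    · obtain ⟨hgH, hgN⟩ := mem_inf.1 hg
      exact hz hgH (normalizer_le_normalizer_zc _ hgN)
    · by_cases hz' : P₁ ≤ normalizer (zc (S : Subgroup G) : Set G)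
      · exact hz (hH hg) (hz' hg)
      · refine key (hH hg) ?_
        rw [D.conj_Zp hQ ⟨h₁, hz'⟩ hH hg]
  obtain ⟨⟨h', hh'⟩, h1, h2⟩ := hle hh
  have h3 : h' = h := h2
  subst h3
  have h4 : ρ ⟨h', hh'⟩ • img π Zp = img π Zp := h1
  rwa [D.smul_img Q hh' D.ZU] at h4

omit Q in
/-- **(f) END**, up to (Q) -/
theorem false_of (hQP : ∀ (M : Type u) [AddCommGroup M] [Finite M] (Γ : Type u) [Group Γ] [DistribMulAction Γ M]
    (ρ : ↥H →* Γ) (π : G → M), Md (zl (S : Subgroup G) H) (Rr (S : Subgroup G) P H) H ρ π →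
    Out (Pt π Zp H) (VV ρ π Zp (S : Subgroup G) P) (img π Zp) → QPV (S : Subgroup G) P H) : False := by
  obtain ⟨M, _, Γ, _, _, ρ, π, Q⟩ := D.exists_md
  have : Finite M := Finite.of_surjective (fun x : ↥(zl (S : Subgroup G) H) => π x) fun m => by
    obtain ⟨x, hx, h⟩ := Q.surj m
    exact ⟨⟨x, hx⟩, h⟩
  rcases (D.frame Q).dichotomy with h | ⟨_, h⟩
  · exact D.many_false Q h
  · have O := h _ (e_mem π Zp H)
    exact D.false_of_QP Q (hQP M Γ ρ π Q O) O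

end HypF

end Cfsg.Agent.Omega.NOThreeL.RFEnd
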