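import Cfsg.Agent.Omega.NOThreeL.RFEnd.Pair
import Cfsg.Agent.Omega.NOThreeL.RA.Over

/-!
# NO-3L, `R ∩ (A)`, `k = 1`, nonsplit, fields (NsF), (f) END: (3), group level

`VO S P H Zp h = ⟨V^k : k ∈ H, Zp^k I = Zp^h I⟩` : the group of the lines over the point `Zp^h I / I`.

* `HypF.comm_over` : `Zp^h I = Zp^k I` implies `[V^h, V^k] = 1`; `HypF.VO_comm`, `HypF.VO_le_S`, `HypF.VO_two`;
* **`HypF.bij`** : (3)(b): `w ∈ VO h`, `Zp^h ≰ Y^k`, `x ∈ Zp^k - Rp`, `[w, x] ∈ I` implies `[w, Zp^k] ≤ I`.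

The text is that of `RA/Over.lean`.
-/

set_option autoImplicit false
set_option linter.unusedSectionVars false

namespace Cfsg.Agent.Omega.NOThreeL.RFEnd

open Subgroup Cfsg Cfsg.Agent.Omega.MinPar
open Cfsg.Agent.ZN (zc zl o2)
open Cfsg.Agent.Omega.Frame Cfsg.Agent.Omega.FrameNOFF
open Cfsg.Agent.Omega.Node.NO3L Cfsg.Agent.Omega.NOThreeL.Basic
open Cfsg.Agent.Omega.NoFF.Basic (conj_conj mem_conj conj_le_iff conj_le_centralizer comm_symm comm_mono)
open Cfsg.Agent.Omega.NOThreeL.Pair (conj_eq_of_mem conj_le_normalizer zl_abel)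
open Cfsg.Agent.MinSimple.VModule (zl_le zc_le_zl le_normalizer_zl zc_le o2_isPGroup le_normalizer_o2 le_o2
  normalizer_le_normalizer_zc)
open Cfsg.Agent.Omega.NOThreeL (mem_normalizer_of_conj_eq le_normalizer_of mem_sup_of_comm)
open Cfsg.Agent.Omega.NOThreeL.RTools (cm cm_def cm_mul NN conj_mem_of_mem conj_le_NN le_NN NN_le le_normalizer_NN
  le_sup_inf isLong)
open Cfsg.Agent.Omega.NOThreeL.AOne (Act)
open Cfsg.Agent.Omega.NOThreeL.RA (Yy Rr Opp Opp.symm Ca mem_Ca Ca_le le_of_normalized)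
open scoped Pointwise

universe u

variable {G : Type u} [Group G]

/-- The group of the lines over the point `Z^h R / R`. -/
def VO (S P H Zp : Subgroup G) (h : G) : Subgroup G :=
  ⨆ k ∈ {k : G | k ∈ H ∧ MulAut.conj k • Zp ⊔ Rr S P H = MulAut.conj h • Zp ⊔ Rr S P H},
    MulAut.conj k • zl S P

namespace HypF

variable [Finite G] {F : Type} [Field F] {e : G → Fin 2 → F} {S : Sylow 2 G} {P H Zp Rp Dp B : Subgroup G}
  (D : HypF e S P H Zp Rp Dp B)
include D

theorem NN_cent_R : NN (S : Subgroup G) P H ≤ centralizer (Rr (S : Subgroup G) P H : Set G) := by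
  rw [le_centralizer_iff]
  exact inf_le_right

theorem Z_norm_R {h : G} (hh : h ∈ H) :
    MulAut.conj h • Zp ≤ normalizer (Rr (S : Subgroup G) P H : Set G) := by
  refine ((D.conjZ_le_V h).trans ?_).trans (D.NN_cent_R.trans (centralizer_le_normalizer _))
  exact conj_le_NN hh

/-- `CC_h = {n ∈ N : [n, Zp^h] ≤ I}` is normalised by `S^h` -/
theorem CC_norm {h : G} (hh : h ∈ H) : MulAut.conj h • (S : Subgroup G) ≤
    normalizer ((NN (S : Subgroup G) P H ⊓ Ca (MulAut.conj h • Zp) (Rr (S : Subgroup G) P H) :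
      Subgroup G) : Set G) := by
  refine le_normalizer_of fun g hg n hn => ?_
  have hgH : g ∈ H := by
    have h1 := (conj_le_iff (g := h)).2 D.SH
    rw [conj_eq_of_mem (Subgroup.le_normalizer hh)] at h1
    exact h1 hg
  obtain ⟨hn1, hn2, hn3⟩ := mem_inf.1 hn
  have hRg := D.HR hgH
  refine mem_inf.2 ⟨conj_mem_of_mem (le_normalizer_NN _ _ _ hgH) hn1, ?_, fun z hz => ?_⟩
  · exact D.NN_cent_R (conj_mem_of_mem (le_normalizer_NN _ _ _ hgH) hn1)
  · -- `g` normalises `Zp^h`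
    have hgz : g⁻¹ * z * g ∈ MulAut.conj h • Zp := by
      rw [mem_conj] at hg hz ⊢
      have h2 := conj_mem_of_mem (D.BZ (D.SB (inv_mem hg))) hz
      have e1 : (h⁻¹ * g * h)⁻¹ * (h⁻¹ * z * h) * (h⁻¹ * g * h)⁻¹⁻¹ = h⁻¹ * (g⁻¹ * z * g) * h := by group
      rwa [e1] at h2
    have e1 : cm (g * n * g⁻¹) z = g * cm n (g⁻¹ * z * g) * g⁻¹ := by
      simp only [cm_def]; group
    rw [e1]
    exact conj_mem_of_mem hRg (hn3 _ hgz)

/-- `O₂(CC_h) ≤ S^h` -/
theorem o2CC_le {h : G} (hh : h ∈ H) :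
    o2 (NN (S : Subgroup G) P H ⊓ Ca (MulAut.conj h • Zp) (Rr (S : Subgroup G) P H)) ≤
      MulAut.conj h • (S : Subgroup G) :=
  le_of_normalized S (o2_isPGroup _) ((D.CC_norm hh).trans (Cfsg.Agent.Omega.normalizer_le_normalizer_o2' _))

theorem V_le_Ca {h : G} (hh : h ∈ H) : MulAut.conj h • zl (S : Subgroup G) P ≤
    NN (S : Subgroup G) P H ⊓ Ca (MulAut.conj h • Zp) (Rr (S : Subgroup G) P H) := by
  intro a ha
  have h1 := conj_le_NN hh ha
  refine mem_inf.2 ⟨h1, D.NN_cent_R h1, fun z hz => ?_⟩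
  have h2 : cm a z = 1 := by
    rw [cm_eq_one]
    have hz' := D.conjZ_le_V h hz
    rw [mem_conj] at ha hz'
    have h3 := D.commV ha hz'
    calc a * z = h * ((h⁻¹ * a * h) * (h⁻¹ * z * h)) * h⁻¹ := by group
      _ = h * ((h⁻¹ * z * h) * (h⁻¹ * a * h)) * h⁻¹ := by rw [h3]
      _ = z * a := by group
  rw [h2]
  exact one_mem _

/-- an element moving `x` by an element of `R` normalises `C_N(x)` -/
theorem norm_cent {x n : G} (hn : n ∈ NN (S : Subgroup G) P H) (h : cm n x ∈ Rr (S : Subgroup G) P H) :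
    n ∈ normalizer ((NN (S : Subgroup G) P H ⊓ centralizer ({x} : Set G) : Subgroup G) : Set G) := by
  have key : ∀ {n : G}, n ∈ NN (S : Subgroup G) P H → cm n x ∈ Rr (S : Subgroup G) P H →
      ∀ m ∈ NN (S : Subgroup G) P H ⊓ centralizer ({x} : Set G),
        n⁻¹ * m * n ∈ NN (S : Subgroup G) P H ⊓ centralizer ({x} : Set G) := by
    intro n hn h m hm
    obtain ⟨hm1, hm2⟩ := mem_inf.1 hm
    refine mem_inf.2 ⟨mul_mem (mul_mem (inv_mem hn) hm1) hn, ?_⟩
    rw [mem_centralizer_singleton_iff] at hm2 ⊢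
    -- `n x n⁻¹ = r x`
    have h1 : m * cm n x = cm n x * m := (mem_centralizer_iff.1 (D.NN_cent_R hm1) _ h).symm
    have e1 : n * x * n⁻¹ = cm n x * x := by rw [cm_def]; group
    calc n⁻¹ * m * n * x = n⁻¹ * (m * (n * x * n⁻¹)) * n := by group
      _ = n⁻¹ * ((m * cm n x) * x) * n := by rw [e1, mul_assoc m]
      _ = n⁻¹ * (cm n x * (m * x)) * n := by rw [h1, mul_assoc (cm n x)]
      _ = n⁻¹ * ((cm n x * x) * m) * n := by rw [hm2, mul_assoc (cm n x)]
      _ = x * (n⁻¹ * m * n) := by rw [← e1]; group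
  have h' : cm n⁻¹ x ∈ Rr (S : Subgroup G) P H := by
    have e1 : cm n⁻¹ x = n⁻¹ * (cm n x)⁻¹ * n := by simp only [cm_def]; group
    have e2 : n⁻¹ * (cm n x)⁻¹ * n = (cm n x)⁻¹ := by
      rw [mul_assoc, mem_centralizer_iff.1 (D.NN_cent_R hn) _ (inv_mem h), inv_mul_cancel_left]
    rw [e1, e2]
    exact inv_mem h
  rw [mem_normalizer_iff]
  refine fun m => ⟨fun hm => ?_, fun hm => ?_⟩
  · have := key (inv_mem hn) h' m hm
    rwa [inv_inv] at this
  · have := key hn h _ hm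
    have e1 : n⁻¹ * (n * m * n⁻¹) * n = m := by group
    rwa [e1] at this

/-- `V^h ≤ O₂(CC_h)` -/
theorem V_le_o2CC {h : G} (hh : h ∈ H) : MulAut.conj h • zl (S : Subgroup G) P ≤
    o2 (NN (S : Subgroup G) P H ⊓ Ca (MulAut.conj h • Zp) (Rr (S : Subgroup G) P H)) := by
  obtain ⟨x, hx, hxF⟩ := D.Z_not_F hh
  set CC := NN (S : Subgroup G) P H ⊓ Ca (MulAut.conj h • Zp) (Rr (S : Subgroup G) P H) with hCC
  set K := NN (S : Subgroup G) P H ⊓ centralizer ({x} : Set G) with hK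
  have hn : CC ≤ normalizer (K : Set G) := fun n hn =>
    D.norm_cent (mem_inf.1 hn).1 ((mem_inf.1 hn).2.2 x hx)
  have h1 : o2 K ⊓ CC ≤ o2 CC := by
    refine le_o2 inf_le_right ((o2_isPGroup _).to_le inf_le_left) ?_
    refine le_normalizer_of fun g hg y hy => ?_
    exact mem_inf.2 ⟨conj_mem_of_mem (Cfsg.Agent.Omega.normalizer_le_normalizer_o2' _ (hn hg)) (mem_inf.1 hy).1,
      mul_mem (mul_mem hg (mem_inf.1 hy).2) (inv_mem hg)⟩
  exact (le_inf (D.V_le_o2N hh hx hxF) (D.V_le_Ca hh)).trans h1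

theorem CC_eq {h k : G} (hh : h ∈ H) (hk : k ∈ H)
    (hp : MulAut.conj k • Zp ⊔ Rr (S : Subgroup G) P H =
      MulAut.conj h • Zp ⊔ Rr (S : Subgroup G) P H) :
    Ca (MulAut.conj k • Zp) (Rr (S : Subgroup G) P H) =
      Ca (MulAut.conj h • Zp) (Rr (S : Subgroup G) P H) :=
  le_antisymm (Ca_le (D.Z_norm_R hk) (hp ▸ le_sup_left)) (Ca_le (D.Z_norm_R hh) (hp ▸ le_sup_left))

/-- **(3)** the lines over a point commute -/
theorem comm_over {h k : G} (hh : h ∈ H) (hk : k ∈ H)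
    (hp : MulAut.conj k • Zp ⊔ Rr (S : Subgroup G) P H =
      MulAut.conj h • Zp ⊔ Rr (S : Subgroup G) P H) :
    MulAut.conj h • zl (S : Subgroup G) P ≤
      centralizer ((MulAut.conj k • zl (S : Subgroup G) P : Subgroup G) : Set G) := by
  have D' := Basic.geo D.hc D.data
  have h1 := D.V_le_o2CC hh
  have h2 := D.V_le_o2CC hk
  have h3 := D.o2CC_le hh
  have h4 := D.o2CC_le hk
  rw [D.CC_eq hh hk hp] at h2 h4
  exact D'.noff' D.par D.par ((h1.trans h4).trans (conj_le_iff.2 D.SP)) ((h2.trans h3).trans (conj_le_iff.2 D.SP))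

theorem V_le_VO {h k : G} (hk : k ∈ H) (hp : MulAut.conj k • Zp ⊔ Rr (S : Subgroup G) P H =
      MulAut.conj h • Zp ⊔ Rr (S : Subgroup G) P H) :
    MulAut.conj k • zl (S : Subgroup G) P ≤ VO (S : Subgroup G) P H Zp h :=
  le_iSup₂_of_le (f := fun k (_ : k ∈ {k : G | k ∈ H ∧ MulAut.conj k • Zp ⊔ Rr (S : Subgroup G) P H =
    MulAut.conj h • Zp ⊔ Rr (S : Subgroup G) P H}) => MulAut.conj k • zl (S : Subgroup G) P) k
    ⟨hk, hp⟩ le_rfl

theorem VO_le {h : G} {A : Subgroup G} (hA : ∀ k ∈ H, MulAut.conj k • Zp ⊔ Rr (S : Subgroup G) P H =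
      MulAut.conj h • Zp ⊔ Rr (S : Subgroup G) P H → MulAut.conj k • zl (S : Subgroup G) P ≤ A) :
    VO (S : Subgroup G) P H Zp h ≤ A := iSup₂_le fun k hk => hA k hk.1 hk.2

theorem VO_le_NN {h : G} : VO (S : Subgroup G) P H Zp h ≤ NN (S : Subgroup G) P H :=
  D.VO_le fun _ hk _ => conj_le_NN hk

/-- `V^_p` is in `O₂(CC_h)` -/
theorem VO_le_o2CC {h : G} (hh : h ∈ H) : VO (S : Subgroup G) P H Zp h ≤
    o2 (NN (S : Subgroup G) P H ⊓ Ca (MulAut.conj h • Zp) (Rr (S : Subgroup G) P H)) :=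
  D.VO_le fun k hk hp => by
    have h1 := D.V_le_o2CC hk
    rwa [D.CC_eq hh hk hp] at h1

theorem VO_le_S {h : G} (hh : h ∈ H) : VO (S : Subgroup G) P H Zp h ≤ MulAut.conj h • (S : Subgroup G) :=
  (D.VO_le_o2CC hh).trans (D.o2CC_le hh)

theorem VO_two {h : G} (hh : h ∈ H) : IsPGroup 2 (VO (S : Subgroup G) P H Zp h) :=
  (o2_isPGroup _).to_le (D.VO_le_o2CC hh)

/-- **(3)** `V^_p` is abelian -/
theorem VO_comm {h : G} (_hh : h ∈ H) :
    VO (S : Subgroup G) P H Zp h ≤ centralizer (VO (S : Subgroup G) P H Zp h : Set G) :=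
  D.VO_le fun _ hk hp => comm_symm (D.VO_le fun _ hl hp' => comm_symm (D.comm_over hk hl (hp'.trans hp.symm)))

/-- `V^_p` centralises `Z^h R` -/
theorem VO_cent {h w x : G} (_hh : h ∈ H) (hw : w ∈ VO (S : Subgroup G) P H Zp h)
    (hx : x ∈ MulAut.conj h • Zp ⊔ Rr (S : Subgroup G) P H) : w * x = x * w := by
  have h1 : VO (S : Subgroup G) P H Zp h ≤
      centralizer ((MulAut.conj h • Zp ⊔ Rr (S : Subgroup G) P H : Subgroup G) : Set G) := by
    refine D.VO_le fun k hk hp => ?_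
    rw [← hp, le_centralizer_iff]
    refine sup_le ?_ ?_
    · rw [← le_centralizer_iff]
      have h2 := conj_le_centralizer (g := k) ((zl_abel D.hc S D.par.isLoc).1)
      exact h2.trans (centralizer_le (D.conjZ_le_V k))
    · rw [← le_centralizer_iff]
      exact (conj_le_NN hk).trans D.NN_cent_R
  exact (mem_centralizer_iff.1 (h1 hw) x hx).symm

/-- the exponent of `V^_p` -/
theorem VO_sq {h w : G} (hh : h ∈ H) (hw : w ∈ VO (S : Subgroup G) P H Zp h) : w * w = 1 := by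
  have hab : ∀ {a b : G}, a ∈ VO (S : Subgroup G) P H Zp h → b ∈ VO (S : Subgroup G) P H Zp h → a * b = b * a :=
    fun ha hb => (mem_centralizer_iff.1 (D.VO_comm hh ha) _ hb).symm
  rw [VO, iSup_subtype', iSup_eq_closure] at hw
  have key : ∀ w ∈ closure (⋃ i : {k : G | k ∈ H ∧ MulAut.conj k • Zp ⊔ Rr (S : Subgroup G) P H =
      MulAut.conj h • Zp ⊔ Rr (S : Subgroup G) P H},
      ((MulAut.conj (i : G) • zl (S : Subgroup G) P : Subgroup G) : Set G)),
      w ∈ VO (S : Subgroup G) P H Zp h ∧ w * w = 1 := by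
    intro w hw
    induction hw using closure_induction with
    | mem x hx =>
      obtain ⟨⟨k, hk⟩, hx⟩ := Set.mem_iUnion.1 hx
      refine ⟨D.V_le_VO hk.1 hk.2 hx, ?_⟩
      have hx' : x ∈ MulAut.conj k • zl (S : Subgroup G) P := hx
      rw [mem_conj] at hx'
      have h1 := D.sqV hx'
      calc x * x = k * ((k⁻¹ * x * k) * (k⁻¹ * x * k)) * k⁻¹ := by group
        _ = 1 := by rw [h1]; group
    | one => exact ⟨one_mem _, one_mul _⟩
    | mul a b _ _ ha hb =>
      refine ⟨mul_mem ha.1 hb.1, ?_⟩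
      calc a * b * (a * b) = a * (b * a) * b := by group
        _ = (a * a) * (b * b) := by rw [← hab ha.1 hb.1]; group
        _ = 1 := by rw [ha.2, hb.2, one_mul]
    | inv a _ ha =>
      refine ⟨inv_mem ha.1, ?_⟩
      rw [← mul_inv_rev, ha.2, inv_one]
  exact (key w hw).2

/-- `[V^_p, U] ≤ Z^h R` -/
theorem VO_cm {h w u : G} (hh : h ∈ H) (hw : w ∈ VO (S : Subgroup G) P H Zp h) (hu : u ∈ zl (S : Subgroup G) H) :
    cm w u ∈ MulAut.conj h • Zp ⊔ Rr (S : Subgroup G) P H := by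
  set B := MulAut.conj h • Zp ⊔ Rr (S : Subgroup G) P H with hB
  let X : Subgroup G :=
    { carrier := {w | w ∈ VO (S : Subgroup G) P H Zp h ∧ ∀ u ∈ zl (S : Subgroup G) H, cm w u ∈ B}
      one_mem' := ⟨one_mem _, fun u _ => by
        have : cm 1 u = 1 := by rw [cm_def]; group
        rw [this]; exact one_mem _⟩
      mul_mem' := by
        rintro a b ⟨ha, ha'⟩ ⟨hb, hb'⟩
        refine ⟨mul_mem ha hb, fun u hu => ?_⟩
        have e : cm (a * b) u = (a * cm b u * a⁻¹) * cm a u := by simp only [cm_def]; group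
        have e2 : a * cm b u * a⁻¹ = cm b u := by
          rw [D.VO_cent hh ha (hb' u hu), mul_inv_cancel_right]
        rw [e, e2]
        exact mul_mem (hb' u hu) (ha' u hu)
      inv_mem' := by
        rintro a ⟨ha, ha'⟩
        refine ⟨inv_mem ha, fun u hu => ?_⟩
        have e : cm a⁻¹ u = a⁻¹ * (cm a u)⁻¹ * a := by simp only [cm_def]; group
        have e2 : a⁻¹ * (cm a u)⁻¹ * a = (cm a u)⁻¹ := by
          rw [mul_assoc, ← D.VO_cent hh ha (inv_mem (ha' u hu)), inv_mul_cancel_left]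
        rw [e, e2]
        exact inv_mem (ha' u hu) }
  have h1 : VO (S : Subgroup G) P H Zp h ≤ X := D.VO_le fun k hk hp a ha => ⟨D.V_le_VO hk hp ha, fun u hu => by
    rw [hB, ← hp]
    exact mem_sup_left (D.cm_conj hk ha hu)⟩
  exact (h1 hw).2 u hu

/-- **(3)(b)** -/
theorem bij {h k w x : G} (hh : h ∈ H) (hk : k ∈ H)
    (hY : ¬ MulAut.conj h • Zp ≤ MulAut.conj k • Yy (S : Subgroup G) P H)
    (hw : w ∈ VO (S : Subgroup G) P H Zp h) (hx : x ∈ MulAut.conj k • Zp)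
    (hxF : x ∉ Rp) (hwx : cm w x ∈ Rr (S : Subgroup G) P H) :
    ∀ y ∈ MulAut.conj k • Zp, cm w y ∈ Rr (S : Subgroup G) P H := by
  intro y hy
  by_contra hc
  have hyU := D.conjZ_le hk hy
  have hwN := D.VO_le_NN hw
  have hwH := D.NN_le_H hwN
  -- some line `V^l` over `p` moves `y`
  obtain ⟨l, hl, hlp, hly⟩ : ∃ l ∈ H, MulAut.conj l • Zp ⊔ Rr (S : Subgroup G) P H =
      MulAut.conj h • Zp ⊔ Rr (S : Subgroup G) P H ∧
      ¬ MulAut.conj k • Zp ≤ MulAut.conj l • Yy (S : Subgroup G) P H := by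
    by_contra hcon
    push Not at hcon
    apply hc
    have h1 : VO (S : Subgroup G) P H Zp h ≤ centralizer ({y} : Set G) := D.VO_le fun l hl hlp a ha => by
      rw [mem_centralizer_singleton_iff]
      exact D.Y_comm ha (hcon l hl hlp hy)
    have h2 : cm w y = 1 := cm_eq_one.2 (mem_centralizer_singleton_iff.1 (h1 hw))
    rw [h2]
    exact one_mem _
  -- `Z^l ≰ Y^k`
  have hlY : ¬ MulAut.conj l • Zp ≤ MulAut.conj k • Yy (S : Subgroup G) P H := fun h1 => hY (by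
    have h2 : MulAut.conj l • Zp ⊔ Rr (S : Subgroup G) P H ≤
        MulAut.conj k • Yy (S : Subgroup G) P H := sup_le h1 (D.R_le_Y hk)
    rw [hlp] at h2
    exact le_sup_left.trans h2)
  have ho : Opp (S : Subgroup G) P l k := by
    by_contra hno
    rcases D.pair hl hk hno with h1 | h1
    · exact hlY h1
    · exact hly h1
  -- `c = [w, y] ∉ Y^k`
  have hcB := D.VO_cm hh hw hyU
  set c := cm w y with hcdef
  have hcU : c ∈ zl (S : Subgroup G) H := (sup_le (D.conjZ_le hh) D.RU) hcB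
  have hcY : c ∉ MulAut.conj k • Yy (S : Subgroup G) P H := by
    intro h1
    rw [← hlp] at hcB
    obtain ⟨a, ha, b, hb, hab⟩ := RA.End.exists_mul_of_mem_sup (D.Z_norm_R hl) hcB
    apply hc
    have h2 : a ∈ MulAut.conj k • Yy (S : Subgroup G) P H := by
      have h3 : a = c * b⁻¹ := by rw [hab, mul_inv_cancel_right]
      rw [h3]
      exact mul_mem h1 (inv_mem (D.R_le_Y hk hb))
    have h4 := D.inf_F hl hk ho ha h2
    rw [hab]
    refine mul_mem ?_ hb
    have h5 := D.R_inf_Z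
    have h6 : a ∈ Rr (S : Subgroup G) P H ⊓ Zp := by rw [h5]; exact h4
    exact (mem_inf.1 h6).1
  -- `b ∈ V^k` with `[b, c] = y` modulo `F`
  obtain ⟨b, hb, hbc⟩ := D.exists_cm hk hcU hcY hy
  -- `w b` is a 2-element
  have : Fact (Nat.Prime 2) := ⟨Nat.prime_two⟩
  have hB2 : MulAut.conj k • zl (S : Subgroup G) P ≤ o2 (NN (S : Subgroup G) P H ⊓ centralizer ({x} : Set G)) :=
    D.V_le_o2N hk hx hxF
  have hwn : zpowers w ≤ normalizer ((o2 (NN (S : Subgroup G) P H ⊓ centralizer ({x} : Set G)) : Subgroup G) :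
      Set G) := by
    rw [zpowers_le]
    exact Cfsg.Agent.Omega.normalizer_le_normalizer_o2' _ (D.norm_cent hwN hwx)
  have hw2 : IsPGroup 2 (zpowers w) :=
    (D.VO_two hh).to_le (zpowers_le.2 hw)
  have hJ := IsPGroup.to_sup_of_normal_right' hw2 (o2_isPGroup (NN (S : Subgroup G) P H ⊓ centralizer ({x} : Set G))) hwn
  have hXJ : w * b ∈ zpowers w ⊔ o2 (NN (S : Subgroup G) P H ⊓ centralizer ({x} : Set G)) :=
    mul_mem (mem_sup_left (mem_zpowers w)) (mem_sup_right (hB2 hb))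
  obtain ⟨n, hn⟩ := hJ ⟨w * b, hXJ⟩
  have hn' : (w * b) ^ 2 ^ n = 1 := by
    have := congrArg Subtype.val hn
    simpa using this
  -- the action on `y`, `c`
  obtain ⟨f, hf, hfe⟩ : ∃ f ∈ Rp, cm b c = f * y⁻¹ := ⟨cm b c * y, hbc, by group⟩
  have hbH : b ∈ NN (S : Subgroup G) P H := conj_le_NN hk hb
  have hfH : ∀ {g : G}, g ∈ NN (S : Subgroup G) P H → g * f = f * g := fun hg => D.Rp_fix hf hg
  have hfw := hfH hwN
  have hfb := hfH hbH
  have hyy : y * y = 1 := D.sqU hyU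
  have hcc : c * c = 1 := D.sqU hcU
  have hff : f * f = 1 := D.sqU (D.F_le_U hf)
  have hyi : y⁻¹ = y := D.inv_U hyU
  have hfy : y * f = f * y := D.commU hyU (D.F_le_U hf)
  have hfc : c * f = f * c := D.commU hcU (D.F_le_U hf)
  have hcy : c * y = y * c := D.commU hcU hyU
  have hwy : w * y * w⁻¹ = c * y := by rw [hcdef, cm_def]; group
  have hwc : w * c * w⁻¹ = c := by rw [D.VO_cent hh hw hcB, mul_inv_cancel_right]
  have hby : b * y * b⁻¹ = y := by
    have h1 : b * y = y * b := by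
      have hz' := D.conjZ_le_V k hy
      have hb' := hb
      rw [mem_conj] at hb' hz'
      have h3 := D.commV hb' hz'
      calc b * y = k * ((k⁻¹ * b * k) * (k⁻¹ * y * k)) * k⁻¹ := by group
        _ = k * ((k⁻¹ * y * k) * (k⁻¹ * b * k)) * k⁻¹ := by rw [h3]
        _ = y * b := by group
    rw [h1, mul_inv_cancel_right]
  have hbc' : b * c * b⁻¹ = f * y * c := by
    have h1 : b * c * b⁻¹ = cm b c * c := by rw [cm_def]; group
    rw [h1, hfe, hyi]
  have hXy : (w * b) * y * (w * b)⁻¹ = c * y := by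
    calc (w * b) * y * (w * b)⁻¹ = w * (b * y * b⁻¹) * w⁻¹ := by group
      _ = _ := by rw [hby, hwy]
  have hXf : (w * b) * f * (w * b)⁻¹ = f := by
    rw [hfH (mul_mem hwN hbH), mul_inv_cancel_right]
  have hXc : (w * b) * c * (w * b)⁻¹ = f * y := by
    calc (w * b) * c * (w * b)⁻¹ = w * (b * c * b⁻¹) * w⁻¹ := by group
      _ = (w * f * w⁻¹) * (w * y * w⁻¹) * (w * c * w⁻¹) := by rw [hbc']; group
      _ = f * (c * y) * c := by rw [hfw, mul_inv_cancel_right, hwy, hwc]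
      _ = f * y * (c * c) := by rw [hcy]; group
      _ = f * y := by rw [hcc, mul_one]
  have hX3 : (w * b) ^ 3 * y * ((w * b) ^ 3)⁻¹ = y := by
    calc (w * b) ^ 3 * y * ((w * b) ^ 3)⁻¹
        = (w * b) * ((w * b) * ((w * b) * y * (w * b)⁻¹) * (w * b)⁻¹) * (w * b)⁻¹ := by
          rw [pow_succ, pow_succ, pow_one]; group
      _ = (w * b) * ((w * b) * (c * y) * (w * b)⁻¹) * (w * b)⁻¹ := by rw [hXy]
      _ = (w * b) * (((w * b) * c * (w * b)⁻¹) * ((w * b) * y * (w * b)⁻¹)) * (w * b)⁻¹ := by group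
      _ = (w * b) * ((f * y) * (y * c)) * (w * b)⁻¹ := by rw [hXc, hXy, hcy]
      _ = (w * b) * (f * (y * y) * c) * (w * b)⁻¹ := by simp only [mul_assoc]
      _ = ((w * b) * f * (w * b)⁻¹) * ((w * b) * c * (w * b)⁻¹) := by rw [hyy, mul_one]; group
      _ = (f * f) * y := by rw [hXf, hXc, mul_assoc]
      _ = y := by rw [hff, one_mul]
  have hX : w * b ∈ zpowers ((w * b) ^ 3) := by
    have h1 : ((w * b) ^ 3) ∈ zpowers (w * b) := pow_mem (mem_zpowers _) _
    have h2 : Nat.Coprime 3 (orderOf (w * b)) := by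
      refine Nat.Coprime.coprime_dvd_right (orderOf_dvd_of_pow_eq_one hn') ?_
      exact Nat.Coprime.pow_right n (by norm_num)
    obtain ⟨m, hm⟩ := exists_pow_eq_self_of_coprime h2
    have h3 := pow_mem (mem_zpowers ((w * b) ^ 3)) m
    rwa [hm] at h3
  have hX' : w * b ∈ centralizer ({y} : Set G) := by
    have h1 : (w * b) ^ 3 ∈ centralizer ({y} : Set G) := by
      rw [mem_centralizer_singleton_iff]
      calc (w * b) ^ 3 * y = ((w * b) ^ 3 * y * ((w * b) ^ 3)⁻¹) * (w * b) ^ 3 := by group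
        _ = y * (w * b) ^ 3 := by rw [hX3]
    exact (zpowers_le.2 h1) hX
  apply hc
  have h1 : c * y = y := by
    rw [← hXy, mem_centralizer_singleton_iff.1 hX', mul_inv_cancel_right]
  have h2 : c = 1 := by
    calc c = c * y * y⁻¹ := by group
      _ = 1 := by rw [h1, mul_inv_cancel]
  rw [h2]
  exact one_mem _

end HypF

end Cfsg.Agent.Omega.NOThreeL.RFEnd
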