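import Cfsg.Agent.Omega.NOThreeL.RFEnd.Pts
import Cfsg.Agent.Omega.NOThreeL.RFEnd.Over
import Cfsg.Agent.Omega.NOThreeL.RBig.Sym
import Cfsg.Agent.Omega.NOThreeL.RA.Inst

/-!
# NO-3L, `R ∩ (A)`, `k = 1`, nonsplit, fields (NsF), (f) END (4): MANY AXES at group level

* `HypF.sup_eq_of_img` : `img Zp^k = img Zp^h` implies `Zp^k I = Zp^h I`; `HypF.over_le_S`, `HypF.over_comm`;
* `HypF.fix_pt` : `x ∈ Zp^g - Rp` centralised by the lines over `e` implies that `V_e` fixes `e^g` pointwise;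
* `HypF.pt_of_par`, `HypF.pt_of_zc` : this for `g ∈ P₁ ∈ P*(S)`, `P₁ ≤ H`, and for `g ∈ H ∩ N_G(Z(S))`;
* **`HypF.many_false`** : MANY AXES (`p ~ e ⟹ p = e`) is impossible.
-/

set_option autoImplicit false
set_option linter.unusedSectionVars false

namespace Cfsg.Agent.Omega.NOThreeL.RFEnd

open Subgroup Cfsg Cfsg.Agent.Omega.MinPar
open Cfsg.Agent.ZN (zc zl o2)
open Cfsg.Agent.Omega.Frame Cfsg.Agent.Omega.FrameNOFF
open Cfsg.Agent.Omega.Node.NO3L Cfsg.Agent.Omega.NOThreeL.Basic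
open Cfsg.Agent.Omega.NoFF.Basic (conj_conj mem_conj conj_le_iff conj_le_centralizer comm_symm comm_mono)
open Cfsg.Agent.Omega.NOThreeL.Pair (conj_eq_of_mem conj_le_normalizer zl_abel)
open Cfsg.Agent.MinSimple.VModule (zl_le zc_le_zl le_normalizer_zl zc_le o2_isPGroup le_normalizer_o2 le_o2 o2_le
  normalizer_le_normalizer_zc)
open Cfsg.Agent.Omega.NOThreeL.RTools (cm cm_def cm_mul NN conj_mem_of_mem conj_le_NN le_NN NN_le le_normalizer_NN)
open Cfsg.Agent.Omega.NOThreeL.RBig.Pts (Mv Frame)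
open Cfsg.Agent.Omega.NOThreeL.RA (Yy Rr Opp Md img)
open scoped Pointwise commutatorElement

universe u

variable {G : Type u} [Group G]

namespace HypF

variable [Finite G] {F : Type} [Field F] {e : G → Fin 2 → F} {S : Sylow 2 G} {P H Zp Rp Dp B : Subgroup G}
  (D : HypF e S P H Zp Rp Dp B)
  {M Γ : Type*} [AddCommGroup M] [Group Γ] [DistribMulAction Γ M] {ρ : ↥H →* Γ} {π : G → M}
include D

variable (Q : Md (zl (S : Subgroup G) H) (Rr (S : Subgroup G) P H) H ρ π)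

include Q

/-- `img Zp^k ≤ img Zp^h` implies `Zp^k I ≤ Zp^h I` -/
theorem sup_le_of_img {h k : G} (hh : h ∈ H) (hk : k ∈ H)
    (hp : img π (MulAut.conj k • Zp) ≤ img π (MulAut.conj h • Zp)) :
    MulAut.conj k • Zp ⊔ Rr (S : Subgroup G) P H ≤ MulAut.conj h • Zp ⊔ Rr (S : Subgroup G) P H := by
  refine sup_le (fun x hx => ?_) le_sup_right
  have h1 := hp (Md.pi_mem hx)
  rw [Q.pi_mem_iff (D.conjZ_le hh) (D.conjZ_le hk hx)] at h1
  obtain ⟨z, hz, r, hr, rfl⟩ := h1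
  exact mul_mem (mem_sup_right hr) (mem_sup_left hz)

theorem sup_eq_of_img {h k : G} (hh : h ∈ H) (hk : k ∈ H)
    (hp : img π (MulAut.conj k • Zp) = img π (MulAut.conj h • Zp)) :
    MulAut.conj k • Zp ⊔ Rr (S : Subgroup G) P H = MulAut.conj h • Zp ⊔ Rr (S : Subgroup G) P H :=
  le_antisymm (D.sup_le_of_img Q hh hk hp.le) (D.sup_le_of_img Q hk hh hp.ge)

/-- the lines over `e` lie in `S` -/
theorem over_le_S {k : G} (hk : k ∈ H) (hp : img π (MulAut.conj k • Zp) = img π Zp) :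
    MulAut.conj k • zl (S : Subgroup G) P ≤ (S : Subgroup G) := by
  have h0 : MulAut.conj (1 : G) • Zp = Zp := by rw [map_one, one_smul]
  have h1 := D.V_le_VO hk (D.sup_eq_of_img Q (one_mem H) hk (by rw [h0]; exact hp))
  have h2 := D.VO_le_S (one_mem H)
  rw [map_one, one_smul] at h2
  exact h1.trans h2

/-- the lines over `e` commute with `V_{P₁}`, `P₁ ≤ H` -/
theorem over_comm {k : G} (hk : k ∈ H)
    (hp : img π (MulAut.conj k • Zp) = img π Zp) {P₁ : Subgroup G}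
    (h₁ : IsParS (S : Subgroup G) P₁) (hH : P₁ ≤ H) :
    MulAut.conj k • zl (S : Subgroup G) P ≤ centralizer (zl (S : Subgroup G) P₁ : Set G) := by
  have D' := Basic.geo D.hc D.data
  have h := D'.noff' D.par h₁ (g := k) (h := 1) (by
    rw [map_one, one_smul]
    exact (D.over_le_S Q hk hp).trans h₁.le) (by
    rw [map_one, one_smul]
    have h2 : zl (S : Subgroup G) P₁ ≤ zl (S : Subgroup G) H := RA.End.zl_mono hH
    refine h2.trans ?_
    rw [← D.conjU hk]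
    exact conj_le_iff.2 D.UP)
  rw [map_one, one_smul] at h
  exact h

omit Q D in
theorem hone (π : G → M) (Zp : Subgroup G) : img π (MulAut.conj (1 : G) • Zp) = img π Zp := by
  rw [map_one, one_smul]

omit Q D in
theorem e_mem (π : G → M) (Zp H : Subgroup G) : img π Zp ∈ Pt π Zp H := ⟨1, one_mem H, hone π Zp⟩

/-- `x ∈ Zp^g - Rp` centralised modulo `I` by the lines over `e`: `V_e` fixes `e^g` -/
theorem fix_pt [Finite M] {g : G} (hg : g ∈ H) {x : G} (hx : x ∈ MulAut.conj g • Zp) (hxR : x ∉ Rp)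
    (h : ∀ k ∈ H, img π (MulAut.conj k • Zp) = img π Zp →
      ∀ a ∈ MulAut.conj k • zl (S : Subgroup G) P, a * x = x * a) :
    ¬ Mv (VV ρ π Zp (S : Subgroup G) P) (img π Zp) (img π (MulAut.conj g • Zp)) := by
  intro hm
  have Fr := D.frame Q
  have he := e_mem π Zp H
  have hr := mem_Pt (π := π) (Zp := Zp) hg
  have hm' := Fr.symm he hr hm
  have hfix : ∀ v ∈ VV ρ π Zp (S : Subgroup G) P (img π Zp), v • π x = π x := by
    intro v hv
    have h1 : VV ρ π Zp (S : Subgroup G) P (img π Zp) ≤ MulAction.stabilizer Γ (π x) := by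
      refine D.VV_le fun k hk hp a ha haH => ?_
      change ρ ⟨a, haH⟩ • π x = π x
      rw [D.smul_eq_iff Q haH (D.conjZ_le hg hx), cm_eq_one.2 (h k hk hp a ha)]
      exact one_mem _
    exact h1 hv
  obtain ⟨v, hv, y, hy, hne⟩ := hm
  rcases Fr.bij _ he _ hr hm' v hv with h1 | h1
  · exact hne (h1 y hy)
  · exact hxR ((D.pi_eq_zero Q hg hx).1 (h1 _ (Md.pi_mem hx) (hfix v hv)))

omit Q in
/-- `ε^g ∉ Rp` -/
theorem conj_eps {x g : G} (hg : g ∈ H) (hx : x ∈ Dp) (hx1 : x ≠ 1) : g * x * g⁻¹ ∉ Rp := by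
  intro h
  have h1 := D.Rp_conj' h hg
  have e1 : g⁻¹ * (g * x * g⁻¹) * g = x := by group
  rw [e1] at h1
  have h2 : x ∈ Rp ⊓ Dp := mem_inf.2 ⟨h1, hx⟩
  rw [D.RD, mem_bot] at h2
  exact hx1 h2

omit Q in
theorem conj_mem_conj' {x g : G} (hx : x ∈ Zp) : g * x * g⁻¹ ∈ MulAut.conj g • Zp := by
  rw [mem_conj]
  have e1 : g⁻¹ * (g * x * g⁻¹) * g = x := by group
  rwa [e1]

/-- `g ∈ P₁ ∈ P*(S)`, `P₁ ≤ H` -/
theorem pt_of_par [Finite M] {P₁ : Subgroup G} (h₁ : IsParS (S : Subgroup G) P₁) (hH : P₁ ≤ H) {g : G} (hg : g ∈ P₁) :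
    ¬ Mv (VV ρ π Zp (S : Subgroup G) P) (img π Zp) (img π (MulAut.conj g • Zp)) := by
  obtain ⟨x, hx, hx1⟩ := D.eps
  obtain ⟨hxz, hxD⟩ := mem_inf.1 hx
  refine D.fix_pt Q (hH hg) (D.conj_mem_conj' (D.zcZ hxz)) (D.conj_eps (hH hg) hxD hx1) fun k hk hp a ha => ?_
  have h2 : g * x * g⁻¹ ∈ zl (S : Subgroup G) P₁ :=
    conj_mem_of_mem (le_normalizer_zl _ _ hg) (zc_le_zl (S : Subgroup G) P₁ hxz)
  exact (mem_centralizer_iff.1 (D.over_comm Q hk hp h₁ hH ha) _ h2).symm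

/-- `g ∈ H ∩ N_G(Z(S))` -/
theorem pt_of_zc [Finite M] {g : G} (hgH : g ∈ H) (hg : g ∈ normalizer (zc (S : Subgroup G) : Set G)) :
    ¬ Mv (VV ρ π Zp (S : Subgroup G) P) (img π Zp) (img π (MulAut.conj g • Zp)) := by
  obtain ⟨x, hx, hx1⟩ := D.eps
  obtain ⟨hxz, hxD⟩ := mem_inf.1 hx
  have h3 := conj_mem_of_mem hg hxz
  refine D.fix_pt Q hgH (D.conj_mem_conj' (D.zcZ hxz)) (D.conj_eps hgH hxD hx1) fun k hk hp a ha => ?_
  -- `V^k` centralises `Zp R` up to `I`, and `ε^g ∈ Zp`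
  have h4 := D.VO_cent (one_mem H) (w := a) (x := g * x * g⁻¹)
    (D.V_le_VO hk (D.sup_eq_of_img Q (one_mem H) hk (by rw [hone]; exact hp)) ha)
    (mem_sup_left (by rw [map_one, one_smul]; exact D.zcZ h3))
  exact h4

/-- **MANY AXES** is impossible. -/
theorem many_false [Finite M] (hmany : ∀ e ∈ Pt π Zp H, ∀ p ∈ Pt π Zp H,
    ¬ Mv (VV ρ π Zp (S : Subgroup G) P) e p → e = p) : False := by
  have Fr := D.frame Q
  set e₀ := img π Zp with he₀
  have heP : e₀ ∈ Pt π Zp H := e_mem π Zp H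
  -- `H` fixes `e₀`
  have hle : H ≤ (Subgroup.comap ρ (MulAction.stabilizer Γ e₀)).map H.subtype := by
    have key : ∀ {g : G} (hgH : g ∈ H), ¬ Mv (VV ρ π Zp (S : Subgroup G) P) e₀ (img π (MulAut.conj g • Zp)) →
        g ∈ (Subgroup.comap ρ (MulAction.stabilizer Γ e₀)).map H.subtype := by
      intro g hgH h1
      refine ⟨⟨g, hgH⟩, ?_, rfl⟩
      change ρ ⟨g, hgH⟩ • e₀ = e₀
      rw [he₀, D.smul_img Q hgH D.ZU]
      exact (hmany e₀ heP _ (mem_Pt hgH) h1).symm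
    refine IsLoc.le_of_forall S D.loc (fun g hg => ?_) fun P₁ h₁ hH g hg => ?_
    · obtain ⟨hgH, hgN⟩ := mem_inf.1 hg
      exact key hgH (D.pt_of_zc Q hgH (normalizer_le_normalizer_zc _ hgN))
    · by_cases hz : P₁ ≤ normalizer (zc (S : Subgroup G) : Set G)
      · exact key (hH hg) (D.pt_of_zc Q (hH hg) (hz hg))
      · exact key (hH hg) (D.pt_of_par Q ⟨h₁, hz⟩ hH hg)
  obtain ⟨r, hr, hm⟩ := Fr.exists_mv heP
  obtain ⟨h, hh, rfl⟩ := hr
  obtain ⟨⟨h', hh'⟩, h1, h2⟩ := hle hh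
  have h3 : h' = h := h2
  subst h3
  have h4 : ρ ⟨h', hh'⟩ • e₀ = e₀ := h1
  rw [he₀, D.smul_img Q hh' D.ZU] at h4
  rw [h4] at hm
  obtain ⟨v, hv, x, hx, hne⟩ := hm
  exact hne (Fr.triv _ heP v hv x hx)

end HypF

end Cfsg.Agent.Omega.NOThreeL.RFEnd
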