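import Cfsg.Agent.Omega.NOThreeL.RA.Pair
import Cfsg.Agent.Omega.NOThreeL.RFEnd.Base

/-!
# NO-3L, NsF, (f) END: (1), the pairs

The same as `RA/Pair.lean` for `D : HypF e S P H Zp Rp Dp B`, `q = |F|`, with `Z := Zp`, `F := Rp`, `E := Dp`:

* `e_cm`, `VU_Z` : `[V, U] ≤ Zp`; `exists_beta`; `cm_conj`; `relIndex_YU`, `relIndex_ZV`, `relIndex_EZ`;
* **`comm_of_I`** (F') : `z ∈ Zp^h`, `x ∈ N`, `[x, z] ∈ I` implies `[x, z] = 1`;
* `exists_opp`; `inf_eq` : `Zp^h ∩ Y^k = Rp` if `Opp h k`; `not_R`, **`not_R'`**; **`card_F`** : `|Zp/Rp| = q`;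
  **`U_eq`** : `U = Zp^h Y^k` if `Opp h k`; `exists_cm` : `[V^h, u] Rp = Zp^h`;
* `mem_R` : `C_{U/I}(N) = 1`; `pair` : if `⟨V^h, V^k⟩` is a 2-group, then `Zp^h ≤ Y^k` or `Zp^k ≤ Y^h`.
-/

set_option autoImplicit false
set_option linter.unusedSectionVars false

namespace Cfsg.Agent.Omega.NOThreeL.RFEnd

open Subgroup Cfsg Cfsg.Agent.Omega.MinPar
open Cfsg.Agent.ZN (zc zl o2)
open Cfsg.Agent.Omega.Frame Cfsg.Agent.Omega.FrameNOFF
open Cfsg.Agent.Omega.Node.NO3L Cfsg.Agent.Omega.NOThreeL.Basic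
open Cfsg.Agent.Omega.NoFF.Basic (conj_conj mem_conj conj_le_iff conj_le_centralizer comm_symm comm_mono)
open Cfsg.Agent.Omega.NOThreeL.Pair (conj_eq_of_mem conj_le_normalizer zl_abel)
open Cfsg.Agent.MinSimple.VModule (zl_le zc_le_zl le_normalizer_zl zc_le o2_isPGroup le_normalizer_o2 le_o2
  normalizer_le_normalizer_zc)
open Cfsg.Agent.Omega.NOThreeL (mem_normalizer_of_conj_eq le_normalizer_of mem_sup_of_comm)
open Cfsg.Agent.Omega.NOThreeL.RTools (cm cm_def cm_mul NN conj_mem_of_mem conj_le_NN le_NN NN_le le_normalizer_NN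
  le_sup_inf isLong)
open Cfsg.Agent.Omega.NOThreeL.AOne (Act ap_up_0)
open Cfsg.Agent.Omega.NOThreeL.RA (Yy Rr le_o2_of_pairs Opp Opp.symm ap_up_1 relIndex_of_map relIndex_conj)
open Cfsg.Agent.Lib.SL2Mat
open Cfsg.Agent.Omega.NatPair (ap ap_mul ap_one ap_inv_ap)
open scoped Pointwise commutatorElement

universe u

namespace HypF

variable {G : Type u} [Group G] [Finite G] {F : Type} [Field F] {e : G → Fin 2 → F} {S : Sylow 2 G}
  {P H Zp Rp Dp B : Subgroup G} (D : HypF e S P H Zp Rp Dp B)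
include D

/-! ### coordinates -/

theorem e_one : e 1 = 0 := by
  have h := D.mul 1 (one_mem _) 1 (one_mem _)
  rw [mul_one] at h
  exact left_eq_add.mp h

theorem e_self {v : G} (hv : v ∈ zl (S : Subgroup G) P) : e v + e v = 0 := by
  rw [← D.mul v hv v hv, D.sqV hv, D.e_one]

theorem inv_V {v : G} (hv : v ∈ zl (S : Subgroup G) P) : v⁻¹ = v := inv_eq_of_mul_eq_one_left (D.sqV hv)

theorem inv_U {v : G} (hv : v ∈ zl (S : Subgroup G) H) : v⁻¹ = v := inv_eq_of_mul_eq_one_left (D.sqU hv)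

theorem two_eq (x : F) : x + x = 0 := by
  obtain ⟨v, hv, h⟩ := D.surj ![x, 0]
  have h1 := congrFun (D.e_self hv) 0
  rw [h] at h1
  exact h1

theorem e_cm {v u : G} {b : F} (hv : v ∈ zl (S : Subgroup G) P) (hu : u ∈ P)
    (h : Act e (zl (S : Subgroup G) P) u (up b)) : e (cm v u) = ![b * e v 1, 0] := by
  have e1 : cm v u = v * (u * v * u⁻¹) := by
    rw [cm_def]
    calc v * u * v⁻¹ * u⁻¹ = v * (u * v⁻¹ * u⁻¹) := by group
      _ = v * (u * v * u⁻¹) := by rw [D.inv_V hv]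
  rw [e1, D.mul v hv _ (conj_mem_of_mem (D.PV hu) hv), h v hv]
  funext i
  fin_cases i
  · change e v 0 + ap (up b) (e v) 0 = b * e v 1
    rw [ap_up_0, ← add_assoc, D.two_eq, zero_add]
  · change e v 1 + ap (up b) (e v) 1 = 0
    rw [ap_up_1, D.two_eq]

theorem cm_VP {v u : G} (hv : v ∈ zl (S : Subgroup G) P) (hu : u ∈ P) : cm v u ∈ zl (S : Subgroup G) P := by
  have e1 : cm v u = v * (u * v⁻¹ * u⁻¹) := by rw [cm_def]; group
  rw [e1]
  exact mul_mem hv (conj_mem_of_mem (D.PV hu) (inv_mem hv))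

theorem UP : zl (S : Subgroup G) H ≤ P := D.US.trans D.SP

/-- `[V, U] ≤ Z` -/
theorem VU_Z {v u : G} (hv : v ∈ zl (S : Subgroup G) P) (hu : u ∈ zl (S : Subgroup G) H) :
    cm v u ∈ Zp := by
  obtain ⟨b, hb⟩ := D.up1 u hu
  rw [← D.line _ (D.cm_VP hv (D.UP hu)), D.e_cm hv (D.UP hu) hb]
  rfl

/-- the root coordinate of `U` -/
theorem exists_beta : ∃ β : G → F, (∀ u ∈ zl (S : Subgroup G) H, Act e (zl (S : Subgroup G) P) u (up (β u))) ∧
    (∀ u ∈ zl (S : Subgroup G) H, ∀ w ∈ zl (S : Subgroup G) H, β (u * w) = β u + β w) ∧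
    (∀ u ∈ zl (S : Subgroup G) H, β u = 0 ↔ u ∈ Yy (S : Subgroup G) P H) ∧
    ∀ x, ∃ u ∈ zl (S : Subgroup G) H, β u = x := by
  classical
  obtain ⟨v1, hv1, he1⟩ := D.surj ![0, 1]
  have he : e v1 1 = 1 := by rw [he1]; rfl
  have huniq : ∀ u ∈ zl (S : Subgroup G) H, ∀ b b', Act e (zl (S : Subgroup G) P) u (up b) →
      Act e (zl (S : Subgroup G) P) u (up b') → b = b' := by
    intro u hu b b' h1 h2
    have h3 := congrFun (D.e_cm hv1 (D.UP hu) h1) 0
    rw [D.e_cm hv1 (D.UP hu) h2, he, mul_one, mul_one] at h3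
    exact h3.symm
  choose! β hβ using D.up1
  refine ⟨β, hβ, ?_, ?_, ?_⟩
  · intro u hu w hw
    refine huniq _ (mul_mem hu hw) _ _ (hβ _ (mul_mem hu hw)) ?_
    rw [← up_mul]
    exact (hβ u hu).mul (hβ w hw) (D.PV (D.UP hw))
  · intro u hu
    constructor
    · intro h
      refine mem_inf.mpr ⟨hu, D.cent u hu ?_⟩
      have h1 := hβ u hu
      rwa [h, up_zero] at h1
    · intro h
      refine huniq u hu _ _ (hβ u hu) ?_
      rw [up_zero]
      intro v hv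
      rw [ap_one]
      congr 1
      rw [← mem_centralizer_iff.mp (mem_inf.mp h).2 v hv, mul_inv_cancel_right]
  · intro x
    obtain ⟨u, hu, h⟩ := D.up2 x
    exact ⟨u, hu, huniq u hu _ _ (hβ u hu) h⟩

theorem ZV_P {v : G} (hv : v ∈ Zp) : e v 1 = 0 := (D.line v (D.ZV hv)).mpr hv

/-- `[v, u] ∈ E` only if `v ∈ Z` or `u ∈ Y` -/
theorem cm_E {v u : G} (hv : v ∈ zl (S : Subgroup G) P) (hu : u ∈ zl (S : Subgroup G) H)
    (h : cm v u ∈ Dp) : v ∈ Zp ∨ u ∈ Yy (S : Subgroup G) P H := by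
  obtain ⟨β, h1, h2, h3, h4⟩ := D.exists_beta
  have h5 : e (cm v u) = 0 := (D.ker _ (D.cm_VP hv (D.UP hu))).mpr h
  rw [D.e_cm hv (D.UP hu) (h1 u hu)] at h5
  have h6 : β u * e v 1 = 0 := congrFun h5 0
  rcases mul_eq_zero.mp h6 with h | h
  · exact Or.inr ((h3 u hu).mp h)
  · exact Or.inl ((D.line v hv).mp h)

theorem cm_one {v u : G} (hv : v ∈ zl (S : Subgroup G) P) (hu : u ∈ zl (S : Subgroup G) H)
    (h : cm v u = 1) : v ∈ Zp ∨ u ∈ Yy (S : Subgroup G) P H :=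
  D.cm_E hv hu (h ▸ one_mem _)

/-! ### indices -/

theorem relIndex_YU : (Yy (S : Subgroup G) P H).relIndex (zl (S : Subgroup G) H) = Nat.card F := by
  obtain ⟨β, _, h2, h3, h4⟩ := D.exists_beta
  exact relIndex_of_map β h2 h3 h4

theorem relIndex_ZV : Zp.relIndex (zl (S : Subgroup G) P) = Nat.card F := by
  refine relIndex_of_map (fun v => e v 1) (fun a ha b hb => congrFun (D.mul a ha b hb) 1) D.line fun x => ?_
  obtain ⟨v, hv, h⟩ := D.surj ![0, x]
  exact ⟨v, hv, by rw [h]; rfl⟩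

theorem relIndex_EZ : Dp.relIndex Zp = Nat.card F := by
  refine relIndex_of_map (fun v => e v 0) (fun a ha b hb => congrFun (D.mul a (D.ZV ha) b (D.ZV hb)) 0)
    (fun a ha => ?_) fun x => ?_
  · rw [← D.ker a (D.ZV ha)]
    constructor
    · intro h
      funext i
      fin_cases i
      · exact h
      · exact D.ZV_P ha
    · intro h
      exact congrFun h 0
  · obtain ⟨v, hv, h⟩ := D.surj ![x, 0]
    refine ⟨v, (D.line v hv).mp (by rw [h]; rfl), by rw [h]; rfl⟩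

/-! ### conjugates -/

omit D in
theorem conj_cm (h x y : G) : h⁻¹ * cm x y * h = cm (h⁻¹ * x * h) (h⁻¹ * y * h) := by
  simp only [cm_def]; group

theorem U_conj {h u : G} (hh : h ∈ H) (hu : u ∈ zl (S : Subgroup G) H) : h⁻¹ * u * h ∈ zl (S : Subgroup G) H := by
  have h1 := conj_mem_of_mem (D.HU (inv_mem hh)) hu
  rwa [inv_inv] at h1

theorem conjU {h : G} (hh : h ∈ H) : MulAut.conj h • zl (S : Subgroup G) H = zl (S : Subgroup G) H :=
  conj_eq_of_mem (D.HU hh)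

/-- `[V^h, U] ≤ Z^h` -/
theorem cm_conj {h a u : G} (hh : h ∈ H) (ha : a ∈ MulAut.conj h • zl (S : Subgroup G) P)
    (hu : u ∈ zl (S : Subgroup G) H) : cm a u ∈ MulAut.conj h • Zp := by
  rw [mem_conj] at ha ⊢
  rw [conj_cm]
  exact D.VU_Z ha (D.U_conj hh hu)

theorem conjZ_le {h : G} (hh : h ∈ H) : MulAut.conj h • Zp ≤ zl (S : Subgroup G) H := by
  have h1 := (conj_le_iff (g := h)).2 D.ZU
  rwa [D.conjU hh] at h1

theorem conjY_le {h : G} (hh : h ∈ H) : MulAut.conj h • Yy (S : Subgroup G) P H ≤ zl (S : Subgroup G) H := by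
  have h1 := (conj_le_iff (g := h)).2 (inf_le_left : Yy (S : Subgroup G) P H ≤ zl (S : Subgroup G) H)
  rwa [D.conjU hh] at h1

theorem conjZ_le_V (h : G) : MulAut.conj h • Zp ≤ MulAut.conj h • zl (S : Subgroup G) P :=
  conj_le_iff.2 D.ZV

theorem conjV_le {h : G} (hh : h ∈ H) : MulAut.conj h • zl (S : Subgroup G) P ≤ H := by
  have h1 := (conj_le_iff (g := h)).2 D.VH
  rwa [conj_eq_of_mem (Subgroup.le_normalizer hh)] at h1

/-- `C_U(a) = Y^h` for `a ∈ V^h - Z^h` -/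
theorem mem_Y_of_comm {h a u : G} (hh : h ∈ H) (ha : a ∈ MulAut.conj h • zl (S : Subgroup G) P)
    (ha' : a ∉ MulAut.conj h • Zp) (hu : u ∈ zl (S : Subgroup G) H) (hc : a * u = u * a) :
    u ∈ MulAut.conj h • Yy (S : Subgroup G) P H := by
  rw [mem_conj] at ha ha' ⊢
  rcases D.cm_one ha (D.U_conj hh hu) (by
    rw [← conj_cm, cm_eq_one.mpr hc, mul_one, inv_mul_cancel]) with h1 | h1
  · exact absurd h1 ha'
  · exact h1

theorem Y_comm {h a u : G} (ha : a ∈ MulAut.conj h • zl (S : Subgroup G) P)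
    (hu : u ∈ MulAut.conj h • Yy (S : Subgroup G) P H) : a * u = u * a := by
  rw [mem_conj] at ha hu
  have h1 := mem_centralizer_iff.mp (mem_inf.mp hu).2 _ ha
  calc a * u = h * ((h⁻¹ * a * h) * (h⁻¹ * u * h)) * h⁻¹ := by group
    _ = h * ((h⁻¹ * u * h) * (h⁻¹ * a * h)) * h⁻¹ := by rw [h1]
    _ = u * a := by group

theorem mem_Y_iff {h u : G} (hh : h ∈ H) : u ∈ MulAut.conj h • Yy (S : Subgroup G) P H ↔
    u ∈ zl (S : Subgroup G) H ∧ ∀ a ∈ MulAut.conj h • zl (S : Subgroup G) P, a * u = u * a := by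
  constructor
  · exact fun hu => ⟨D.conjY_le hh hu, fun a ha => D.Y_comm ha hu⟩
  · rintro ⟨hu, h1⟩
    rw [mem_conj]
    refine mem_inf.mpr ⟨D.U_conj hh hu, ?_⟩
    rw [mem_centralizer_iff]
    intro v hv
    have h2 := h1 (h * v * h⁻¹) (by rw [mem_conj]; have e1 : h⁻¹ * (h * v * h⁻¹) * h = v := by group
                                    rwa [e1])
    calc v * (h⁻¹ * u * h) = h⁻¹ * ((h * v * h⁻¹) * u) * h := by group
      _ = h⁻¹ * (u * (h * v * h⁻¹)) * h := by rw [h2]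
      _ = h⁻¹ * u * h * v := by group

theorem F_le_U : Rp ≤ zl (S : Subgroup G) H := D.RpU

theorem F_le_Y {h : G} (hh : h ∈ H) : Rp ≤ MulAut.conj h • Yy (S : Subgroup G) P H := by
  intro x hx
  rw [D.mem_Y_iff hh]
  exact ⟨D.F_le_U hx, fun a ha => D.Rp_fix hx (conj_le_NN hh ha)⟩

theorem R_le_Y {h : G} (hh : h ∈ H) : Rr (S : Subgroup G) P H ≤ MulAut.conj h • Yy (S : Subgroup G) P H := by
  intro x hx
  rw [D.mem_Y_iff hh]
  exact ⟨D.RU hx, fun a ha => mem_centralizer_iff.mp (mem_inf.mp hx).2 a (conj_le_NN hh ha)⟩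

/-! ### (S) -/

omit D in
theorem card_mul_relIndex' {A C : Subgroup G} (h : A ≤ C) : Nat.card A * A.relIndex C = Nat.card C := by
  rw [Subgroup.relIndex, ← Nat.card_congr (Subgroup.subgroupOfEquivOfLe h).toEquiv]
  exact Subgroup.card_mul_index _

omit D in
/-- `2 ∤ |N : S ∩ N|` for `N ⊴ H`, `S ≤ H` -/
theorem not_dvd_inf (S : Sylow 2 G) {X : Subgroup G} (h : (S : Subgroup G) ≤ normalizer (X : Set G)) :
    ¬ 2 ∣ ((S : Subgroup G) ⊓ X).relIndex X := by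
  have hKn : (X.subgroupOf (X ⊔ S)).Normal := normal_subgroupOf_of_le_normalizer (sup_le le_normalizer h)
  have h1 := relIndex_sup_left ((S : Subgroup G).subgroupOf (X ⊔ S)) (X.subgroupOf (X ⊔ S))
  rw [← Subgroup.subgroupOf_sup le_sup_left le_sup_right, Subgroup.subgroupOf_self,
    Subgroup.relIndex_subgroupOf le_sup_right, relIndex_top_right] at h1
  have h2 : Nat.card X * X.relIndex S = Nat.card (X ⊔ S : Subgroup G) := by
    rw [← h1]
    exact card_mul_relIndex' le_sup_left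
  have h3 : Nat.card ((S : Subgroup G) ⊓ X : Subgroup G) * X.relIndex S = Nat.card S := by
    rw [← inf_relIndex_right, inf_comm]
    exact card_mul_relIndex' inf_le_right
  have h4 := card_mul_relIndex' (le_sup_right : (S : Subgroup G) ≤ X ⊔ S)
  have h5 := card_mul_relIndex' (inf_le_right : (S : Subgroup G) ⊓ X ≤ X)
  have h6 := MinSimple.Basic.not_dvd_relIndex S (le_sup_right : (S : Subgroup G) ≤ X ⊔ S)
  have h7 : (S : Subgroup G).relIndex (X ⊔ S) = ((S : Subgroup G) ⊓ X).relIndex X := by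
    apply Nat.eq_of_mul_eq_mul_left (Nat.card_pos (α := S))
    rw [h4, ← h2, ← h5, ← h3]
    ring
  rwa [h7] at h6

theorem SN_dvd {K : Subgroup G} (h1 : (S : Subgroup G) ⊓ NN (S : Subgroup G) P H ≤ K)
    (h2 : K ≤ NN (S : Subgroup G) P H) : ¬ 2 ∣ ((S : Subgroup G) ⊓ NN (S : Subgroup G) P H).relIndex K := by
  have hSN : (S : Subgroup G) ≤ normalizer (NN (S : Subgroup G) P H : Set G) :=
    D.SH.trans (le_normalizer_NN _ _ _)
  have h4 : ((S : Subgroup G) ⊓ NN (S : Subgroup G) P H).relIndex K ∣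
      ((S : Subgroup G) ⊓ NN (S : Subgroup G) P H).relIndex (NN (S : Subgroup G) P H) :=
    ⟨_, (relIndex_mul_relIndex _ _ _ h1 h2).symm⟩
  exact fun h5 => not_dvd_inf S hSN (h5.trans h4)

/-- **(F')** -/
theorem comm_of_I_one {z x : G} (hz : z ∈ Zp) (hx : x ∈ NN (S : Subgroup G) P H)
    (h : cm x z ∈ Rr (S : Subgroup G) P H) : x * z = z * x := by
  have : Fact (Nat.Prime 2) := ⟨Nat.prime_two⟩
  have hfix : ∀ {x y : G}, x ∈ Rr (S : Subgroup G) P H → y ∈ NN (S : Subgroup G) P H → y * x * y⁻¹ = x :=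
    fun hx hy => by rw [mem_centralizer_iff.mp (mem_inf.mp hx).2 _ hy, mul_inv_cancel_right]
  have hmul : ∀ {x y : G}, x ∈ NN (S : Subgroup G) P H → cm x z ∈ Rr (S : Subgroup G) P H →
      cm y z ∈ Rr (S : Subgroup G) P H → cm (x * y) z = cm x z * cm y z := by
    intro x y hx hy' hy
    have e1 : cm (x * y) z = (x * cm y z * x⁻¹) * cm x z := by simp only [cm_def]; group
    rw [e1, hfix hy hx]
    exact D.commU (D.RU hy) (D.RU hy')
  let K : Subgroup G :=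
    { carrier := {x | x ∈ NN (S : Subgroup G) P H ∧ cm x z ∈ Rr (S : Subgroup G) P H}
      mul_mem' := by
        rintro x y ⟨hx, h1⟩ ⟨hy, h2⟩
        refine ⟨mul_mem hx hy, ?_⟩
        rw [hmul hx h1 h2]
        exact mul_mem h1 h2
      one_mem' := ⟨one_mem _, by rw [cm_def]; simp⟩
      inv_mem' := by
        rintro x ⟨hx, h1⟩
        refine ⟨inv_mem hx, ?_⟩
        have e1 : cm x⁻¹ z = x⁻¹ * (cm x z)⁻¹ * x⁻¹⁻¹ := by simp only [cm_def]; group
        rw [e1, hfix (inv_mem h1) (inv_mem hx)]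
        exact inv_mem h1 }
  let φ : K →* G := MonoidHom.mk' (fun x => cm (x : G) z) fun x y => hmul x.2.1 x.2.2 y.2.2
  have hs : ∀ s ∈ (S : Subgroup G) ⊓ NN (S : Subgroup G) P H, cm s z = 1 := fun s hs => by
    rw [cm_eq_one]
    exact (mem_centralizer_iff.mp (D.SN hs) z hz).symm
  have hSK : (S : Subgroup G) ⊓ NN (S : Subgroup G) P H ≤ K := fun s h1 => ⟨(mem_inf.1 h1).2, by
    rw [hs s h1]; exact one_mem _⟩
  have hSk : ((S : Subgroup G) ⊓ NN (S : Subgroup G) P H).subgroupOf K ≤ φ.ker := by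
    rintro ⟨s, hs'⟩ h1
    rw [MonoidHom.mem_ker]
    exact hs s h1
  have h1 : ¬ 2 ∣ φ.ker.index := by
    intro h2
    have h3 : φ.ker.index ∣ (((S : Subgroup G) ⊓ NN (S : Subgroup G) P H).subgroupOf K).index :=
      index_dvd_of_le hSk
    exact D.SN_dvd hSK (fun x hx => hx.1) (h2.trans h3)
  have h2 : IsPGroup 2 φ.range := by
    have h3 : φ.range ≤ Rr (S : Subgroup G) P H := by
      rintro _ ⟨x, rfl⟩
      exact x.2.2
    exact (S.isPGroup'.to_le (D.RU.trans D.US)).to_le h3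
  have h3 : φ.range = ⊥ := by
    obtain ⟨n, hn⟩ := IsPGroup.iff_card.mp h2
    rw [index_ker, hn] at h1
    have hn0 : n = 0 := by
      by_contra h4
      exact h1 (dvd_pow_self 2 h4)
    rw [hn0, pow_zero] at hn
    exact Subgroup.eq_bot_of_card_eq _ hn
  have h4 : φ ⟨x, hx, h⟩ ∈ φ.range := ⟨_, rfl⟩
  rw [h3, mem_bot] at h4
  exact cm_eq_one.mp h4

/-- **(F')** for `Zp^h` -/
theorem comm_of_I {h z x : G} (hh : h ∈ H) (hz : z ∈ MulAut.conj h • Zp) (hx : x ∈ NN (S : Subgroup G) P H)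
    (hF : cm x z ∈ Rr (S : Subgroup G) P H) : x * z = z * x := by
  rw [mem_conj] at hz
  have h1 : cm (h⁻¹ * x * h) (h⁻¹ * z * h) ∈ Rr (S : Subgroup G) P H := by
    rw [← conj_cm]
    have h2 := conj_mem_of_mem (D.HR (inv_mem hh)) hF
    rwa [inv_inv] at h2
  have h3 : h⁻¹ * x * h ∈ NN (S : Subgroup G) P H := by
    have h2 := conj_mem_of_mem (le_normalizer_NN (S : Subgroup G) P H (inv_mem hh)) hx
    rwa [inv_inv] at h2
  have h2 := D.comm_of_I_one hz h3 h1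
  calc x * z = h * ((h⁻¹ * x * h) * (h⁻¹ * z * h)) * h⁻¹ := by group
    _ = h * ((h⁻¹ * z * h) * (h⁻¹ * x * h)) * h⁻¹ := by rw [h2]
    _ = z * x := by group

/-! ### opposite pairs -/

/-- Baer–Suzuki -/
theorem exists_opp {h : G} (hh : h ∈ H) : ∃ k ∈ H, Opp (S : Subgroup G) P h k := by
  by_contra hcon
  push Not at hcon
  refine D.ne ((le_o2_of_pairs D.VH fun g hg => ?_).trans D.o2_cent)
  have h1 : IsPGroup 2 (MulAut.conj h • zl (S : Subgroup G) P ⊔ MulAut.conj (h * g) • zl (S : Subgroup G) P : Subgroup G) := by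
    have h2 := hcon (h * g) (mul_mem hh hg)
    unfold Opp at h2
    rwa [not_not] at h2
  rw [← conj_conj, ← Subgroup.smul_sup] at h1
  exact h1.of_equiv (Subgroup.equivSMul (MulAut.conj h) _).symm

/-- `Z^h ∩ Y^k = F` -/
theorem inf_F {h k : G} (hh : h ∈ H) (hk : k ∈ H) (ho : Opp (S : Subgroup G) P h k) {x : G}
    (hx : x ∈ MulAut.conj h • Zp) (hxY : x ∈ MulAut.conj k • Yy (S : Subgroup G) P H) :
    x ∈ Rp := by
  by_contra hxF
  apply ho
  have h1 := D.V_le_o2N hh hx hxF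
  set L := NN (S : Subgroup G) P H ⊓ centralizer ({x} : Set G) with hL
  have h2 : MulAut.conj k • zl (S : Subgroup G) P ≤ L := by
    intro a ha
    refine mem_inf.mpr ⟨conj_le_NN hk ha, ?_⟩
    rw [mem_centralizer_iff]
    rintro _ rfl
    exact (D.Y_comm ha hxY).symm
  have h3 : IsPGroup 2 (MulAut.conj k • zl (S : Subgroup G) P ⊔ o2 L : Subgroup G) := by
    have : Fact (Nat.Prime 2) := ⟨Nat.prime_two⟩
    refine IsPGroup.to_sup_of_normal_right' ?_ (o2_isPGroup _) (h2.trans (le_normalizer_o2 _))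
    exact (S.isPGroup'.to_le D.VS).map _
  refine h3.to_le (sup_le (h1.trans le_sup_right) le_sup_left)

theorem inf_eq {h k : G} (hh : h ∈ H) (hk : k ∈ H) (ho : Opp (S : Subgroup G) P h k) :
    MulAut.conj h • Zp ⊓ MulAut.conj k • Yy (S : Subgroup G) P H = Rp :=
  le_antisymm (fun _ hx => D.inf_F hh hk ho (mem_inf.mp hx).1 (mem_inf.mp hx).2)
    (le_inf (D.Rp_le hh) (D.F_le_Y hk))

theorem not_R {h k a z : G} (hh : h ∈ H) (hk : k ∈ H) (ho : Opp (S : Subgroup G) P h k)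
    (hz : z ∈ MulAut.conj k • Zp) (hzF : z ∉ Rp)
    (ha : a ∈ MulAut.conj h • zl (S : Subgroup G) P) (haZ : a ∉ MulAut.conj h • Zp) :
    cm a z ∉ Rr (S : Subgroup G) P H := by
  intro h1
  have hzU := D.conjZ_le hk hz
  have h3 := D.comm_of_I hk hz (conj_le_NN hh ha) h1
  exact hzF (D.inf_F hk hh ho.symm hz (D.mem_Y_of_comm hh ha haZ hzU h3))

theorem Z_not_F {k : G} (hk : k ∈ H) : ∃ z ∈ MulAut.conj k • Zp, z ∉ Rp := by
  obtain ⟨x, hx, hx1⟩ := D.eps
  refine ⟨k * x * k⁻¹, ?_, fun h => ?_⟩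
  · rw [mem_conj]
    have e1 : k⁻¹ * (k * x * k⁻¹) * k = x := by group
    rw [e1]
    exact D.DZ (mem_inf.1 hx).2
  · have h1 := D.Rp_conj' h hk
    have e1 : k⁻¹ * (k * x * k⁻¹) * k = x := by group
    rw [e1] at h1
    have h2 : x ∈ Rp ⊓ Dp := mem_inf.2 ⟨h1, (mem_inf.1 hx).2⟩
    rw [D.RD, mem_bot] at h2
    exact hx1 h2

/-- `β`-coordinate of `h⁻¹ u h` -/
theorem exists_beta_conj {h : G} (hh : h ∈ H) : ∃ β : G → F,
    (∀ u ∈ zl (S : Subgroup G) H, ∀ w ∈ zl (S : Subgroup G) H, β (u * w) = β u + β w) ∧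
    (∀ u ∈ zl (S : Subgroup G) H, β u = 0 ↔ u ∈ MulAut.conj h • Yy (S : Subgroup G) P H) ∧
    ∀ x, ∃ u ∈ zl (S : Subgroup G) H, β u = x := by
  obtain ⟨β, h1, h2, h3, h4⟩ := D.exists_beta
  refine ⟨fun u => β (h⁻¹ * u * h), ?_, ?_, ?_⟩
  · intro u hu w hw
    have e1 : h⁻¹ * (u * w) * h = (h⁻¹ * u * h) * (h⁻¹ * w * h) := by group
    change β _ = _
    rw [e1, h2 _ (D.U_conj hh hu) _ (D.U_conj hh hw)]
  · intro u hu
    rw [mem_conj]
    exact h3 _ (D.U_conj hh hu)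
  · intro x
    obtain ⟨u, hu, h5⟩ := h4 x
    refine ⟨h * u * h⁻¹, conj_mem_of_mem (D.HU hh) hu, ?_⟩
    have e1 : h⁻¹ * (h * u * h⁻¹) * h = u := by group
    change β _ = x
    rw [e1, h5]

theorem finite_F : Finite F := by
  have h1 : (Set.range fun v : zl (S : Subgroup G) P => e v 0).Finite := Set.finite_range _
  refine Set.finite_univ_iff.mp (h1.subset fun x _ => ?_)
  obtain ⟨v, hv, h⟩ := D.surj ![x, 0]
  exact ⟨⟨v, hv⟩, by change e v 0 = x; rw [h]; rfl⟩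

/-- `|V^h/Z^h| = q` -/
theorem relIndex_ZVh (h : G) :
    (MulAut.conj h • Zp).relIndex (MulAut.conj h • zl (S : Subgroup G) P) = Nat.card F := by
  rw [relIndex_conj, D.relIndex_ZV]

theorem relIndex_YUh {h : G} (hh : h ∈ H) :
    (MulAut.conj h • Yy (S : Subgroup G) P H).relIndex (zl (S : Subgroup G) H) = Nat.card F := by
  have h1 := relIndex_conj h (Yy (S : Subgroup G) P H) (zl (S : Subgroup G) H)
  rw [D.conjU hh, D.relIndex_YU] at h1
  exact h1

theorem relIndex_F_conj {h : G} (hh : h ∈ H) : Rp.relIndex (MulAut.conj h • Zp) = Rp.relIndex Zp := by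
  have h1 := relIndex_conj h Rp Zp
  rwa [conj_eq_of_mem (D.HRp hh)] at h1

/-- `|Z/F| ≤ q` -/
theorem card_le : (Rp).relIndex Zp ≤ Nat.card F := by
  have := D.finite_F
  obtain ⟨k, hk, ho⟩ := D.exists_opp (one_mem H)
  have h1 : (Rp).relIndex Zp =
      (MulAut.conj k • Yy (S : Subgroup G) P H).relIndex Zp := by
    have h2 := D.inf_eq (one_mem H) hk ho
    rw [map_one, one_smul] at h2
    rw [← h2, inf_relIndex_left]
  rw [h1, ← D.relIndex_YUh hk]
  refine relIndex_le_of_le_right D.ZU ?_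
  rw [D.relIndex_YUh hk]
  exact Nat.card_pos.ne'

/-- the map `a ↦ [a, z]` -/
theorem cm_mul_left {h a b z : G} (hh : h ∈ H) (ha : a ∈ MulAut.conj h • zl (S : Subgroup G) P)
    (hb : b ∈ MulAut.conj h • zl (S : Subgroup G) P) (hz : z ∈ zl (S : Subgroup G) H) :
    cm (a * b) z = cm a z * cm b z := by
  have h1 := D.cm_conj hh hb hz
  have h2 : a * cm b z * a⁻¹ = cm b z := by
    have h3 := ha
    have h4 := h1
    rw [mem_conj] at h3 h4
    have h5 := D.commV h3 (D.ZV h4)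
    calc a * cm b z * a⁻¹ = h * ((h⁻¹ * a * h) * (h⁻¹ * cm b z * h)) * h⁻¹ * a⁻¹ := by group
      _ = h * ((h⁻¹ * cm b z * h) * (h⁻¹ * a * h)) * h⁻¹ * a⁻¹ := by rw [h5]
      _ = cm b z := by group
  have e1 : cm (a * b) z = (a * cm b z * a⁻¹) * cm a z := by simp only [cm_def]; group
  rw [e1, h2]
  exact D.commU (D.conjZ_le hh h1) (D.conjZ_le hh (D.cm_conj hh ha hz))

/-- the elements `[a, z]`, `a ∈ V^h` -/
theorem exists_cm_card {h k z : G} (hh : h ∈ H) (hk : k ∈ H) (ho : Opp (S : Subgroup G) P h k)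
    (hz : z ∈ MulAut.conj k • Zp) (hzF : z ∉ Rp) :
    Nat.card F = (Rp).relIndex (MulAut.conj h • Zp) ∧
    ∀ w ∈ MulAut.conj h • Zp, ∃ a ∈ MulAut.conj h • zl (S : Subgroup G) P,
      cm a z * w ∈ Rp := by
  classical
  have := D.finite_F
  have hzU := D.conjZ_le hk hz
  set A := MulAut.conj h • zl (S : Subgroup G) P with hA
  set Zh := MulAut.conj h • Zp with hZh
  have hFZ : Rp ≤ Zh := D.Rp_le hh
  have hcomm : ∀ x ∈ Zh, ∀ y ∈ Zh, x * y = y * x := fun x hx y hy => D.commU (D.conjZ_le hh hx) (D.conjZ_le hh hy)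
  have hn : ((Rp).subgroupOf Zh).Normal := by
    refine ⟨fun x hx g => ?_⟩
    have h1 : g * x * g⁻¹ = x := Subtype.ext (by
      change (g : G) * x * (g : G)⁻¹ = x
      rw [hcomm g g.2 x x.2, mul_inv_cancel_right])
    rwa [h1]
  let f₀ : A →* Zh := MonoidHom.mk' (fun a => ⟨cm (a : G) z, D.cm_conj hh a.2 hzU⟩) fun a b =>
    Subtype.ext (D.cm_mul_left hh a.2 b.2 hzU)
  let f : A →* Zh ⧸ ((Rp).subgroupOf Zh) := (QuotientGroup.mk' _).comp f₀
  have hker : f.ker = Zh.subgroupOf A := by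
    ext ⟨a, ha⟩
    rw [MonoidHom.mem_ker, mem_subgroupOf]
    have h1 : f ⟨a, ha⟩ = 1 ↔ cm a z ∈ Rp := by
      change (QuotientGroup.mk (f₀ ⟨a, ha⟩) : Zh ⧸ ((Rp).subgroupOf Zh)) = 1 ↔ _
      rw [QuotientGroup.eq_one_iff, mem_subgroupOf]
      rfl
    rw [h1]
    constructor
    · intro h2
      by_contra h3
      have h4 : cm a z ∈ Rr (S : Subgroup G) P H := by
        have h5 : cm a z ∈ Rr (S : Subgroup G) P H ⊓ Zp := by
          rw [D.R_inf_Z]; exact h2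
        exact (mem_inf.mp h5).1
      exact D.not_R hh hk ho hz hzF ha h3 h4
    · intro h2
      have h3 : a * z = z * a := D.commU (D.conjZ_le hh h2) hzU
      rw [cm_eq_one.mpr h3]
      exact one_mem _
  have h1 : f.ker.index = Nat.card F := by
    rw [hker]
    exact D.relIndex_ZVh h
  have h2 : Nat.card f.range ≤ Nat.card (Zh ⧸ ((Rp).subgroupOf Zh)) :=
    Nat.card_le_card_of_injective _ Subtype.val_injective
  have h3 : Nat.card (Zh ⧸ ((Rp).subgroupOf Zh)) = (Rp).relIndex Zh := rfl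
  have h4 : (Rp).relIndex Zh ≤ Nat.card F := by
    rw [hZh, D.relIndex_F_conj hh]
    exact D.card_le
  rw [← index_ker, h1, h3] at h2
  have h5 : Nat.card F = (Rp).relIndex Zh := le_antisymm h2 h4
  refine ⟨h5, fun w hw => ?_⟩
  have h6 : f.range = ⊤ := by
    refine Subgroup.eq_top_of_card_eq _ ?_
    rw [← index_ker, h1, h3, h5]
  have h7 : (QuotientGroup.mk (⟨w, hw⟩ : Zh) : Zh ⧸ ((Rp).subgroupOf Zh))⁻¹ ∈ f.range := by
    rw [h6]; exact mem_top _
  obtain ⟨⟨a, ha⟩, h8⟩ := h7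
  refine ⟨a, ha, ?_⟩
  have h9 : (QuotientGroup.mk (f₀ ⟨a, ha⟩ * ⟨w, hw⟩) : Zh ⧸ ((Rp).subgroupOf Zh)) = 1 := by
    rw [QuotientGroup.mk_mul]
    change f ⟨a, ha⟩ * _ = 1
    rw [h8, inv_mul_cancel]
  rw [QuotientGroup.eq_one_iff, mem_subgroupOf] at h9
  exact h9

/-- **`|Z/F| = q`** -/
theorem card_F : (Rp).relIndex Zp = Nat.card F := by
  obtain ⟨k, hk, ho⟩ := D.exists_opp (one_mem H)
  obtain ⟨z, hz, hzF⟩ := D.Z_not_F hk
  have h1 := (D.exists_cm_card (one_mem H) hk ho hz hzF).1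
  rw [map_one, one_smul] at h1
  exact h1.symm

/-- **`U = Z^h Y^k`** for an opposite pair -/
theorem U_eq {h k : G} (hh : h ∈ H) (hk : k ∈ H) (ho : Opp (S : Subgroup G) P h k) {u : G}
    (hu : u ∈ zl (S : Subgroup G) H) : ∃ z ∈ MulAut.conj h • Zp,
      ∃ y ∈ MulAut.conj k • Yy (S : Subgroup G) P H, u = z * y := by
  have := D.finite_F
  obtain ⟨β, h2, h3, h4⟩ := D.exists_beta_conj hk
  set Zh := MulAut.conj h • Zp with hZh
  let φ : Zh →* Multiplicative F := MonoidHom.mk' (fun a => Multiplicative.ofAdd (β a)) fun a b => by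
    rw [← ofAdd_add, ← h2 a (D.conjZ_le hh a.2) b (D.conjZ_le hh b.2)]
    rfl
  have hker : φ.ker = (Rp).subgroupOf Zh := by
    ext ⟨a, ha⟩
    rw [MonoidHom.mem_ker, mem_subgroupOf]
    change β a = 0 ↔ a ∈ _
    rw [h3 a (D.conjZ_le hh ha)]
    exact ⟨fun h5 => D.inf_F hh hk ho ha h5, fun h5 => D.F_le_Y hk h5⟩
  have h5 : φ.range = ⊤ := by
    refine Subgroup.eq_top_of_card_eq _ ?_
    rw [← index_ker, hker]
    change (Rp).relIndex Zh = _
    rw [hZh, D.relIndex_F_conj hh, D.card_F]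
    exact Nat.card_congr Multiplicative.ofAdd
  have h6 : Multiplicative.ofAdd (β u) ∈ φ.range := by rw [h5]; exact mem_top _
  obtain ⟨⟨z, hz⟩, h7⟩ := h6
  have h8 : β z = β u := h7
  have hzU := D.conjZ_le hh hz
  refine ⟨z, hz, z⁻¹ * u, ?_, by group⟩
  rw [← h3 _ (mul_mem (inv_mem hzU) hu), h2 _ (inv_mem hzU) _ hu, D.inv_U hzU, h8, D.two_eq]

/-- **`[a, u] ∉ R`** for `a ∈ V^h - Z^h`, `u ∈ U - Y^h` -/
theorem not_R' {h a u : G} (hh : h ∈ H) (ha : a ∈ MulAut.conj h • zl (S : Subgroup G) P)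
    (haZ : a ∉ MulAut.conj h • Zp) (hu : u ∈ zl (S : Subgroup G) H)
    (huY : u ∉ MulAut.conj h • Yy (S : Subgroup G) P H) : cm a u ∉ Rr (S : Subgroup G) P H := by
  obtain ⟨k, hk, ho⟩ := D.exists_opp hh
  obtain ⟨z, hz, y, hy, rfl⟩ := D.U_eq hk hh ho.symm hu
  have h1 : a * y = y * a := D.Y_comm ha hy
  have e1 : cm a (z * y) = cm a z := by
    rw [cm_def, cm_def, mul_inv_rev]
    calc a * (z * y) * a⁻¹ * (y⁻¹ * z⁻¹) = a * z * (y * a⁻¹) * y⁻¹ * z⁻¹ := by group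
      _ = a * z * (a⁻¹ * y) * y⁻¹ * z⁻¹ := by
          have h2 : y * a⁻¹ = a⁻¹ * y := by
            calc y * a⁻¹ = a⁻¹ * (a * y) * a⁻¹ := by group
              _ = a⁻¹ * (y * a) * a⁻¹ := by rw [h1]
              _ = a⁻¹ * y := by group
          rw [h2]
      _ = a * z * a⁻¹ * z⁻¹ := by group
  rw [e1]
  refine D.not_R hh hk ho hz (fun h2 => huY ?_) ha haZ
  exact mul_mem (D.F_le_Y hh h2) hy

/-- **`[V^h, u] F = Z^h`** for `u ∈ U - Y^h` -/
theorem exists_cm {h u : G} (hh : h ∈ H) (hu : u ∈ zl (S : Subgroup G) H)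
    (huY : u ∉ MulAut.conj h • Yy (S : Subgroup G) P H) {w : G} (hw : w ∈ MulAut.conj h • Zp) :
    ∃ a ∈ MulAut.conj h • zl (S : Subgroup G) P, cm a u * w ∈ Rp := by
  obtain ⟨k, hk, ho⟩ := D.exists_opp hh
  obtain ⟨z, hz, y, hy, rfl⟩ := D.U_eq hk hh ho.symm hu
  have hzF : z ∉ Rp := fun h2 => huY (mul_mem (D.F_le_Y hh h2) hy)
  obtain ⟨a, ha, h1⟩ := (D.exists_cm_card hh hk ho hz hzF).2 w hw
  refine ⟨a, ha, ?_⟩
  have h2 : a * y = y * a := D.Y_comm ha hy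
  have e1 : cm a (z * y) = cm a z := by
    rw [cm_def, cm_def, mul_inv_rev]
    have h3 : y * a⁻¹ = a⁻¹ * y := by
      calc y * a⁻¹ = a⁻¹ * (a * y) * a⁻¹ := by group
        _ = a⁻¹ * (y * a) * a⁻¹ := by rw [h2]
        _ = a⁻¹ * y := by group
    calc a * (z * y) * a⁻¹ * (y⁻¹ * z⁻¹) = a * z * (y * a⁻¹) * y⁻¹ * z⁻¹ := by group
      _ = a * z * (a⁻¹ * y) * y⁻¹ * z⁻¹ := by rw [h3]
      _ = a * z * a⁻¹ * z⁻¹ := by group
  rwa [e1]

/-- **`C_{U/R}(N) = 1`** -/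
theorem mem_R {u : G} (hu : u ∈ zl (S : Subgroup G) H)
    (h : ∀ n ∈ NN (S : Subgroup G) P H, cm n u ∈ Rr (S : Subgroup G) P H) : u ∈ Rr (S : Subgroup G) P H := by
  have h1 : ∀ k ∈ H, u ∈ MulAut.conj k • Yy (S : Subgroup G) P H := by
    intro k hk
    by_contra h2
    -- an element of `V^k - Z^k`
    have h3 : ∃ a ∈ MulAut.conj k • zl (S : Subgroup G) P, a ∉ MulAut.conj k • Zp := by
      obtain ⟨v, hv, hev⟩ := D.surj ![0, 1]
      refine ⟨k * v * k⁻¹, ?_, ?_⟩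
      · rw [mem_conj]
        have e1 : k⁻¹ * (k * v * k⁻¹) * k = v := by group
        rwa [e1]
      · rw [mem_conj]
        have e1 : k⁻¹ * (k * v * k⁻¹) * k = v := by group
        rw [e1]
        intro h4
        have h5 := D.ZV_P h4
        rw [hev] at h5
        exact one_ne_zero h5
    obtain ⟨a, ha, haZ⟩ := h3
    exact D.not_R' hk ha haZ hu h2 (h a (conj_le_NN hk ha))
  refine mem_inf.mpr ⟨hu, ?_⟩
  have h2 : NN (S : Subgroup G) P H ≤ centralizer ({u} : Set G) := by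
    refine NN_le fun k hk a ha => ?_
    rw [mem_centralizer_iff]
    rintro _ rfl
    exact (D.Y_comm ha (h1 k hk)).symm
  rw [mem_centralizer_iff]
  intro n hn
  exact (mem_centralizer_iff.mp (h2 hn) u rfl).symm

/-- `|R| = |D|` -/
theorem card_F_eq : Nat.card Rp = Nat.card Dp := by
  have := D.finite_F
  have h1 := card_mul_index (Rp.subgroupOf Zp)
  have h2 := card_mul_index (Dp.subgroupOf Zp)
  have h3 : (Rp.subgroupOf Zp).index = Nat.card F := D.card_F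
  have h4 : (Dp.subgroupOf Zp).index = Nat.card F := D.relIndex_EZ
  rw [h3, Nat.card_congr (subgroupOfEquivOfLe D.RZ).toEquiv] at h1
  rw [h4, Nat.card_congr (subgroupOfEquivOfLe D.DZ).toEquiv, ← h1] at h2
  exact (Nat.eq_of_mul_eq_mul_right Nat.card_pos h2).symm

/-- **pairs generating a 2-group** -/
theorem pair {h k : G} (hh : h ∈ H) (hk : k ∈ H) (ho : ¬ Opp (S : Subgroup G) P h k) :
    MulAut.conj h • Zp ≤ MulAut.conj k • Yy (S : Subgroup G) P H ∨
      MulAut.conj k • Zp ≤ MulAut.conj h • Yy (S : Subgroup G) P H := by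
  have : Fact (Nat.Prime 2) := ⟨Nat.prime_two⟩
  unfold Opp at ho
  rw [not_not] at ho
  by_contra hcon
  push Not at hcon
  obtain ⟨hc1, hc2⟩ := hcon
  obtain ⟨z, hz, hzY⟩ := SetLike.not_le_iff_exists.mp hc1
  obtain ⟨w, hw, hwY⟩ := SetLike.not_le_iff_exists.mp hc2
  have hzU := D.conjZ_le hh hz
  have hwU := D.conjZ_le hk hw
  obtain ⟨b, hb, hb1⟩ := D.exists_cm hk hzU hzY hw
  obtain ⟨a, ha, ha1⟩ := D.exists_cm hh hwU hwY hz
  set X : Subgroup G := MulAut.conj h • zl (S : Subgroup G) P ⊔ MulAut.conj k • zl (S : Subgroup G) P with hX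
  have hXH : X ≤ H := sup_le (D.conjV_le hh) (D.conjV_le hk)
  have hXN : X ≤ NN (S : Subgroup G) P H := sup_le (conj_le_NN hh) (conj_le_NN hk)
  set T : Subgroup G := X ⊔ zl (S : Subgroup G) H with hT
  have hTp : IsPGroup 2 T :=
    IsPGroup.to_sup_of_normal_right' ho (S.isPGroup'.to_le D.US) (hXH.trans D.HU)
  have hnil : Group.IsNilpotent T := IsPGroup.isNilpotent hTp
  obtain ⟨n, hn⟩ := (Subgroup.isNilpotent_iff_lowerCentralSeries T).mp hnil
  have haT : a ∈ T := (le_sup_left : X ≤ T) ((le_sup_left : _ ≤ X) ha)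
  have hbT : b ∈ T := (le_sup_left : X ≤ T) ((le_sup_right : _ ≤ X) hb)
  have hUT : zl (S : Subgroup G) H ≤ T := le_sup_right
  -- the step
  have step : ∀ {m : ℕ} {x y c : G}, c ∈ X → x ∈ zl (S : Subgroup G) H → y ∈ zl (S : Subgroup G) H →
      cm c x * y ∈ Rp → (∃ r ∈ Rr (S : Subgroup G) P H, x * r ∈ T.lowerCentralSeries m) →
      ∃ r ∈ Rr (S : Subgroup G) P H, y * r ∈ T.lowerCentralSeries (m + 1) := by
    rintro m x y c hc hx hy hf ⟨r, hr, hxr⟩
    have hfR : cm c x * y ∈ Rr (S : Subgroup G) P H := by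
      rw [← D.R_inf_Z] at hf
      exact (mem_inf.mp hf).1
    refine ⟨cm c x * y, hfR, ?_⟩
    have hcr : c * r = r * c := mem_centralizer_iff.mp (mem_inf.mp hr).2 c (hXN hc)
    have hcx : cm c x ∈ zl (S : Subgroup G) H := by
      have e1 : cm c x = (c * x * c⁻¹) * x⁻¹ := by rw [cm_def]
      rw [e1]
      exact mul_mem (conj_mem_of_mem (D.HU (hXH hc)) hx) (inv_mem hx)
    have h1 : cm c (x * r) = cm c x := by
      rw [cm_def, cm_def, mul_inv_rev]
      have h2 : r * c⁻¹ = c⁻¹ * r := by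
        calc r * c⁻¹ = c⁻¹ * (c * r) * c⁻¹ := by group
          _ = c⁻¹ * (r * c) * c⁻¹ := by rw [hcr]
          _ = c⁻¹ * r := by group
      calc c * (x * r) * c⁻¹ * (r⁻¹ * x⁻¹) = c * x * (r * c⁻¹) * r⁻¹ * x⁻¹ := by group
        _ = c * x * (c⁻¹ * r) * r⁻¹ * x⁻¹ := by rw [h2]
        _ = c * x * c⁻¹ * x⁻¹ := by group
    have h2 : y * (cm c x * y) = cm c x := by
      rw [D.commU hcx hy, ← mul_assoc, D.sqU hy, one_mul]
    rw [h2, ← h1]
    change _ ∈ ⁅T.lowerCentralSeries m, T⁆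
    have h3 : cm c (x * r) = ⁅x * r, c⁆⁻¹ := by
      rw [commutatorElement_inv]
      rfl
    rw [h3]
    exact inv_mem (commutator_mem_commutator hxr ((le_sup_left : X ≤ T) hc))
  have key : ∀ m : ℕ, (∃ r ∈ Rr (S : Subgroup G) P H, z * r ∈ T.lowerCentralSeries m) ∧
      ∃ r ∈ Rr (S : Subgroup G) P H, w * r ∈ T.lowerCentralSeries m := by
    intro m
    induction m with
    | zero => exact ⟨⟨1, one_mem _, by rw [mul_one]; exact hUT hzU⟩, ⟨1, one_mem _, by rw [mul_one]; exact hUT hwU⟩⟩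
    | succ m ih =>
      exact ⟨step ((le_sup_left : _ ≤ X) ha) hwU hzU ha1 ih.2, step ((le_sup_right : _ ≤ X) hb) hzU hwU hb1 ih.1⟩
  obtain ⟨⟨r, hr, h1⟩, -⟩ := key n
  rw [hn, mem_bot] at h1
  have h2 : z ∈ Rr (S : Subgroup G) P H := by
    rw [mul_eq_one_iff_eq_inv.mp h1]
    exact inv_mem hr
  exact hzY (D.F_le_Y hk (D.R_inf hh h2 hz))

end HypF

end Cfsg.Agent.Omega.NOThreeL.RFEnd
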