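import Cfsg.Agent.Omega.NOThreeL.RFEnd.Final

/-!
# NO-3L, `R ∩ (A)`, `k = 1`, nonsplit, fields (NsF), (f) END (0): the choice of `H*`

* `PreF e S P Zp Rp Dp B` : the hypotheses of (f) which do not involve `H*`;
* `le_o2_of_low` : `V ≤ O₂(C_G(Z(S)))`, `V ≤ H`, `[V, U_H] = 1` imply `V ≤ O₂(H)` (`H` local over `S`);
* **`PreF.exists_hypF`** : `H*` := a minimal `H` with `B ≤ H ≤ N_G(Rp)`, `V ≰ O₂(H)`, gives `HypF`;
* **`PreF.false`** : contradiction.
-/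

set_option autoImplicit false
set_option linter.unusedSectionVars false

namespace Cfsg.Agent.Omega.NOThreeL.RFEnd

open Subgroup Cfsg Cfsg.Agent.Omega.MinPar
open Cfsg.Agent.ZN (zc zl o2)
open Cfsg.Agent.Omega.Frame Cfsg.Agent.Omega.FrameNOFF
open Cfsg.Agent.Omega.Node.NO3L Cfsg.Agent.Omega.NOThreeL.Basic
open Cfsg.Agent.Omega.NoFF.Basic (conj_conj mem_conj conj_le_iff conj_le_centralizer comm_symm comm_mono)
open Cfsg.Agent.Omega.NOThreeL.Pair (conj_eq_of_mem conj_le_normalizer zl_abel)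
open Cfsg.Agent.MinSimple.VModule (zl_le zc_le_zl le_normalizer_zl zc_le o2_isPGroup le_normalizer_o2 le_o2 o2_le
  normalizer_le_normalizer_zc mem_zc)
open Cfsg.Agent.Omega.NOThreeL (mem_normalizer_of_conj_eq le_normalizer_of mem_sup_of_comm)
open Cfsg.Agent.Omega.NOThreeL.RTools (cm cm_def cm_mul NN conj_mem_of_mem conj_le_NN le_NN NN_le le_normalizer_NN)
open Cfsg.Agent.Omega.NOThreeL.AOne (Act)
open Cfsg.Agent.Lib.SL2Mat
open Cfsg.Agent.Omega.NatPair (ap ap_mul ap_one ap_inv_ap)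
open scoped Pointwise commutatorElement

universe u

variable {G : Type u} [Group G]

/-- The hypotheses of (f) which do not involve `H*`: `V = zl S P`, `Zp = Z⁺ = Rp × Dp`, `B = T_P S`. -/
structure PreF [Finite G] {F : Type} [Field F] (e : G → Fin 2 → F) (S : Sylow 2 G) (P Zp Rp Dp B : Subgroup G) :
    Prop where
  hc : IsCharacteristicTwoType G
  data : Data (S : Subgroup G)
  par : IsParS (S : Subgroup G) P
  big : ∃ a : F, a ≠ 0 ∧ a ≠ 1
  mul : ∀ v ∈ zl (S : Subgroup G) P, ∀ w ∈ zl (S : Subgroup G) P, e (v * w) = e v + e w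
  surj : ∀ x : Fin 2 → F, ∃ v ∈ zl (S : Subgroup G) P, e v = x
  ker : ∀ v ∈ zl (S : Subgroup G) P, e v = 0 ↔ v ∈ Dp
  line : ∀ v ∈ zl (S : Subgroup G) P, e v 1 = 0 ↔ v ∈ Zp
  lift : ∀ A : Matrix.SpecialLinearGroup (Fin 2) F, ∃ g ∈ P, Act e (zl (S : Subgroup G) P) g A
  ZV : Zp ≤ zl (S : Subgroup G) P
  zcZ : zc (S : Subgroup G) ≤ Zp
  RZ : Rp ≤ Zp
  DZ : Dp ≤ Zp
  ZRD : Zp ≤ Rp ⊔ Dp
  RD : Rp ⊓ Dp = ⊥
  PD : P ≤ normalizer (Dp : Set G)
  SB : (S : Subgroup G) ≤ B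
  BP : B ≤ P
  BZ : B ≤ normalizer (Zp : Set G)
  BR : B ≤ normalizer (Rp : Set G)
  /-- `C_S(Rp)` acts without field automorphisms -/
  unip : ∀ s ∈ (S : Subgroup G), s ∈ centralizer (Rp : Set G) → ∃ b, Act e (zl (S : Subgroup G) P) s (up b)
  cent : ∀ s ∈ (S : Subgroup G), Act e (zl (S : Subgroup G) P) s 1 →
    s ∈ centralizer (zl (S : Subgroup G) P : Set G)
  field : ∀ s ∈ (S : Subgroup G), (∀ v ∈ Zp, e (s * v * s⁻¹) = e v) → s ∈ centralizer (Zp : Set G)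
  /-- the torus -/
  dgB : ∀ (a : F) (ha : a ≠ 0), ∃ g ∈ B, Act e (zl (S : Subgroup G) P) g (dg a ha) ∧ g ∈ centralizer (Dp : Set G)
  /-- the bracket: `D ≤ [U', V] R` -/
  br : ∀ U' : Subgroup G, U' ≤ (S : Subgroup G) → (∀ u ∈ U', ∃ b, Act e (zl (S : Subgroup G) P) u (up b)) →
    (∀ b, ∃ u ∈ U', Act e (zl (S : Subgroup G) P) u (up b)) → Zp ≤ ⁅U', zl (S : Subgroup G) P⁆ ⊔ Rp
  /-- (GD) -/
  gd : ∀ x ∈ Dp, x ≠ 1 → zl (S : Subgroup G) P ≤ o2 (centralizer ({x} : Set G))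
  /-- (GOOD) -/
  good : ∀ z ∈ zc (S : Subgroup G), z ∉ Rp → zl (S : Subgroup G) P ≤ o2 (centralizer ({z} : Set G))
  tor : ∀ z ∈ (zc (S : Subgroup G) ⊓ Dp) ⊔ Rp, ∃ p ∈ B, p * z * p⁻¹ ∈ zc (S : Subgroup G)
  eps : ∃ x ∈ zc (S : Subgroup G) ⊓ Dp, x ≠ 1
  /-- `V ≰ O₂(C_G(R))` -/
  nV : ¬ zl (S : Subgroup G) P ≤ o2 (centralizer (Rp : Set G))

/-- low: `V ≤ O₂(C_G(Z(S)))`, `V ≤ H ∩ C(U_H)` imply `V ≤ O₂(H)` -/
theorem le_o2_of_low {S V H : Subgroup G} (hV : V ≤ o2 (CZ S)) (hVH : V ≤ H)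
    (h : V ≤ centralizer (zl S H : Set G)) : V ≤ o2 H := by
  set K := H ⊓ centralizer (zl S H : Set G) with hK
  have hKC : K ≤ CZ S := inf_le_right.trans (centralizer_le (zc_le_zl S H))
  have hHK : H ≤ normalizer (K : Set G) := by
    refine le_normalizer_of fun g hg x hx => ?_
    obtain ⟨hx1, hx2⟩ := mem_inf.1 hx
    exact mem_inf.2 ⟨mul_mem (mul_mem hg hx1) (inv_mem hg),
      conj_mem_of_mem (RA.End.le_normalizer_centralizer (le_normalizer_zl S H) hg) hx2⟩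
  -- `o2 (CZ) ∩ K ≤ O₂(K)`
  have h1 : o2 (CZ S) ⊓ K ≤ o2 K := by
    refine le_o2 inf_le_right ((o2_isPGroup _).to_le inf_le_left) ?_
    exact le_normalizer_of fun g hg y hy => mem_inf.2 ⟨conj_mem_of_mem (le_normalizer_o2 _ (hKC hg)) (mem_inf.1 hy).1,
      mul_mem (mul_mem hg (mem_inf.1 hy).2) (inv_mem hg)⟩
  have h2 : o2 K ≤ o2 H := by
    refine le_o2 ((o2_le _).trans inf_le_left) (o2_isPGroup _) (hHK.trans ?_)
    exact Cfsg.Agent.Omega.normalizer_le_normalizer_o2' _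
  exact (le_inf hV (le_inf hVH h)).trans (h1.trans h2)

/-- `O₂(H) ∩ K ≤ O₂(K)` for `K ≤ H` -/
theorem o2_inf_le {H K : Subgroup G} (hK : K ≤ H) : o2 H ⊓ K ≤ o2 K := by
  refine le_o2 inf_le_right ((o2_isPGroup _).to_le inf_le_left) ?_
  exact le_normalizer_of fun g hg y hy => mem_inf.2 ⟨conj_mem_of_mem (le_normalizer_o2 _ (hK hg)) (mem_inf.1 hy).1,
    mul_mem (mul_mem hg (mem_inf.1 hy).2) (inv_mem hg)⟩

namespace PreF

variable [Finite G] {F : Type} [Field F] {e : G → Fin 2 → F} {S : Sylow 2 G} {P Zp Rp Dp B : Subgroup G}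
  (D : PreF e S P Zp Rp Dp B)
include D

theorem commV {x y : G} (hx : x ∈ zl (S : Subgroup G) P) (hy : y ∈ zl (S : Subgroup G) P) : x * y = y * x :=
  mem_centralizer_iff.mp ((zl_abel D.hc S D.par.isLoc).1 hy) x hx

theorem sqV {x : G} (hx : x ∈ zl (S : Subgroup G) P) : x * x = 1 := by
  have h := (zl_abel D.hc S D.par.isLoc).2 x hx
  rwa [pow_two] at h

theorem inv_V {v : G} (hv : v ∈ zl (S : Subgroup G) P) : v⁻¹ = v := inv_eq_of_mul_eq_one_left (D.sqV hv)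

theorem SP : (S : Subgroup G) ≤ P := D.par.le

theorem VS : zl (S : Subgroup G) P ≤ (S : Subgroup G) := IsParS.zl_le_S D.hc D.par

theorem PV : P ≤ normalizer (zl (S : Subgroup G) P : Set G) := le_normalizer_zl _ _

theorem RV : Rp ≤ zl (S : Subgroup G) P := D.RZ.trans D.ZV

theorem DV : Dp ≤ zl (S : Subgroup G) P := D.DZ.trans D.ZV

theorem VR : zl (S : Subgroup G) P ≤ centralizer (Rp : Set G) :=
  (zl_abel D.hc S D.par.isLoc).1.trans (centralizer_le D.RV)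

theorem e_one : e 1 = 0 := by
  have h := D.mul 1 (one_mem _) 1 (one_mem _)
  rw [mul_one] at h
  exact left_eq_add.mp h

theorem two_eq (x : F) : x + x = 0 := by
  obtain ⟨v, hv, h⟩ := D.surj ![x, 0]
  have h0 : e v + e v = 0 := by rw [← D.mul v hv v hv, D.sqV hv, D.e_one]
  have h1 := congrFun h0 0
  rw [h] at h1
  exact h1

theorem finite_F : Finite F := by
  have h1 : (Set.range fun v : zl (S : Subgroup G) P => e v 0).Finite := Set.finite_range _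
  refine Set.finite_univ_iff.mp (h1.subset fun x _ => ?_)
  obtain ⟨v, hv, h⟩ := D.surj ![x, 0]
  exact ⟨⟨v, hv⟩, by change e v 0 = x; rw [h]; rfl⟩

theorem exists_sqrt (x : F) : ∃ a : F, x = a * a := by
  have := D.finite_F
  have h2 : (2 : F) = 0 := by
    have h := D.two_eq 1
    rwa [one_add_one_eq_two] at h
  have : CharP F 2 := CharTwo.of_one_ne_zero_of_two_eq_zero one_ne_zero h2
  exact FiniteField.isSquare_of_char_two (ringChar.eq_iff.2 this) x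

/-- decomposition `z = r d` -/
theorem exists_rd {z : G} (hz : z ∈ Zp) : ∃ r ∈ Rp, ∃ d ∈ Dp, z = r * d := by
  have hn : Rp ≤ normalizer (Dp : Set G) := (D.RV.trans (D.VS.trans D.SP)).trans D.PD
  obtain ⟨f, hf, d, hd, h⟩ := RA.End.exists_mul_of_mem_sup hn (D.ZRD hz)
  exact ⟨f, hf, d, hd, h⟩

theorem e_R {r : G} (hr : r ∈ Rp) : e r = ![e r 0, 0] := by
  funext i
  fin_cases i
  · rfl
  · exact (D.line r (D.RV hr)).2 (D.RZ hr)

theorem R_inj {r r' : G} (hr : r ∈ Rp) (hr' : r' ∈ Rp) (h : e r 0 = e r' 0) : r = r' := by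
  have h1 : r * r' ∈ Dp := by
    rw [← D.ker _ (mul_mem (D.RV hr) (D.RV hr')), D.mul r (D.RV hr) r' (D.RV hr'), D.e_R hr, D.e_R hr', h]
    funext i
    fin_cases i
    · exact D.two_eq _
    · exact add_zero _
  have h2 : r * r' ∈ Rp ⊓ Dp := mem_inf.2 ⟨mul_mem hr hr', h1⟩
  rw [D.RD, mem_bot] at h2
  rw [mul_eq_one_iff_eq_inv.1 h2, D.inv_V (D.RV hr')]

theorem exists_R (x : F) : ∃ f ∈ Rp, e f 0 = x := by
  obtain ⟨v, hv, hev⟩ := D.surj ![x, 0]
  have hvZ : v ∈ Zp := (D.line v hv).1 (by rw [hev]; rfl)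
  obtain ⟨f, hf, d, hd, rfl⟩ := D.exists_rd hvZ
  refine ⟨f, hf, ?_⟩
  have h1 := D.mul f (D.RV hf) d (D.DV hd)
  rw [(D.ker d (D.DV hd)).2 hd, add_zero, hev] at h1
  rw [← h1]
  rfl

theorem Rne : Rp ≠ ⊥ := by
  intro h
  obtain ⟨f, hf, h1⟩ := D.exists_R 1
  rw [h, mem_bot] at hf
  rw [hf, D.e_one] at h1
  exact zero_ne_one h1

/-- torus elements on `Rp` -/
theorem dg_R {a : F} (ha : a ≠ 0) {g r : G} (hg : g ∈ B) (hA : Act e (zl (S : Subgroup G) P) g (dg a ha)) (hr : r ∈ Rp) :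
    g * r * g⁻¹ ∈ Rp ∧ e (g * r * g⁻¹) 0 = a * e r 0 := by
  refine ⟨conj_mem_of_mem (D.BR hg) hr, ?_⟩
  rw [hA r (D.RV hr), D.e_R hr]
  change a * e r 0 + 0 * 0 = a * e r 0
  ring

/-- `V ≰ O₂(N_G(R))` -/
theorem nVN : ¬ zl (S : Subgroup G) P ≤ o2 (normalizer (Rp : Set G)) := fun h =>
  D.nV ((le_inf h D.VR).trans (o2_inf_le (centralizer_le_normalizer _)))

/-- the minimal `H*` -/
theorem exists_min : ∃ H : Subgroup G, (B ≤ H ∧ H ≤ normalizer (Rp : Set G) ∧ ¬ zl (S : Subgroup G) P ≤ o2 H) ∧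
    ∀ K : Subgroup G, B ≤ K → K ≤ H → K ≠ H → zl (S : Subgroup G) P ≤ o2 K := by
  classical
  let p : ℕ → Prop := fun n => ∃ H : Subgroup G, (B ≤ H ∧ H ≤ normalizer (Rp : Set G) ∧
    ¬ zl (S : Subgroup G) P ≤ o2 H) ∧ Nat.card H = n
  have hp : ∃ n, p n := ⟨_, _, ⟨D.BR, le_rfl, D.nVN⟩, rfl⟩
  obtain ⟨H, hH, hn⟩ := Nat.find_spec hp
  refine ⟨H, hH, fun K hBK hKH hne => ?_⟩
  by_contra hcon
  have h1 : Nat.card K < Nat.find hp := by
    rw [← hn]
    refine lt_of_le_of_ne (Nat.card_le_card_of_injective _ (inclusion_injective hKH)) fun h2 => hne ?_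
    exact Subgroup.eq_of_le_of_card_ge hKH h2.ge
  exact Nat.find_min hp h1 ⟨K, ⟨hBK, hKH.trans hH.2.1, hcon⟩, rfl⟩

/-- **(0)** -/
theorem exists_hypF : ∃ H : Subgroup G, HypF e S P H Zp Rp Dp B := by
  obtain ⟨H, ⟨hBH, hHR, hne⟩, hmin⟩ := D.exists_min
  have hSH : (S : Subgroup G) ≤ H := D.SB.trans hBH
  have hRo : Rp ≤ o2 H := le_o2 (D.RV.trans (D.VS.trans hSH)) (S.isPGroup'.to_le (D.RV.trans D.VS)) hHR
  have hloc : IsLoc (S : Subgroup G) H := ⟨hSH, fun h => D.Rne (le_bot_iff.1 (h ▸ hRo))⟩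
  have hVH : zl (S : Subgroup G) P ≤ H := D.VS.trans hSH
  have hHU : H ≤ normalizer (zl (S : Subgroup G) H : Set G) := le_normalizer_zl _ _
  have hVU : ¬ zl (S : Subgroup G) P ≤ centralizer (zl (S : Subgroup G) H : Set G) := fun h =>
    hne (le_o2_of_low (D.data.low P D.par) hVH h)
  have hNH : NN (S : Subgroup G) P H ≤ H := NN_le fun x hx => by
    have h1 := conj_le_iff (g := x).2 hVH
    rwa [conj_eq_of_mem (Subgroup.le_normalizer hx)] at h1
  have hNR : NN (S : Subgroup G) P H ≤ centralizer (Rp : Set G) := NN_le fun x hx => by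
    have h1 := conj_le_centralizer (g := x) D.VR
    rwa [conj_eq_of_mem (hHR hx)] at h1
  have hUo : zl (S : Subgroup G) H ≤ o2 H := (hloc.zl_le S D.hc).trans (zc_le _)
  have hUS : zl (S : Subgroup G) H ≤ (S : Subgroup G) := hUo.trans (hloc.o2_le S)
  have hUc : o2 H ≤ centralizer (zl (S : Subgroup G) H : Set G) :=
    Cfsg.Agent.MinSimple.VModule.o2_le_centralizer_zl hloc.le S.isPGroup'
      (MinSimple.Basic.not_dvd_relIndex S hloc.le) (hloc.char2 S D.hc)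
  have hUR : zl (S : Subgroup G) H ≤ centralizer (Rp : Set G) := by
    rw [le_centralizer_iff]
    exact hRo.trans hUc
  have hup1 : ∀ u ∈ zl (S : Subgroup G) H, ∃ b, Act e (zl (S : Subgroup G) P) u (up b) := fun u hu =>
    D.unip u (hUS hu) (hUR hu)
  -- all `up b` are induced
  obtain ⟨u₀, hu₀, b₀, hb₀, hb₀0⟩ : ∃ u ∈ zl (S : Subgroup G) H, ∃ b, Act e (zl (S : Subgroup G) P) u (up b) ∧ b ≠ 0 := by
    by_contra hcon
    push Not at hcon
    apply hVU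
    rw [le_centralizer_iff]
    intro u hu
    obtain ⟨b, hb⟩ := hup1 u hu
    have h1 := hcon u hu b hb
    rw [h1, up_zero] at hb
    exact D.cent u (hUS hu) hb
  have hup2 : ∀ b, ∃ u ∈ zl (S : Subgroup G) H, Act e (zl (S : Subgroup G) P) u (up b) := by
    intro b
    by_cases hb : b = 0
    · refine ⟨1, one_mem _, ?_⟩
      rw [hb, up_zero]
      exact Act.one
    obtain ⟨a, ha⟩ := D.exists_sqrt (b * b₀⁻¹)
    have ha0 : a ≠ 0 := by
      rintro rfl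
      rw [mul_zero] at ha
      exact (mul_ne_zero hb (inv_ne_zero hb₀0)) ha
    obtain ⟨g, hg, hgA, -⟩ := D.dgB a ha0
    refine ⟨g * u₀ * g⁻¹, conj_mem_of_mem (hHU (hBH hg)) hu₀, ?_⟩
    have hgV := D.PV (D.BP hg)
    have h1 : Act e (zl (S : Subgroup G) P) (g * u₀ * g⁻¹) (dg a ha0 * up b₀ * (dg a ha0)⁻¹) :=
      (hgA.mul hb₀ (D.PV (D.SP (hUS hu₀)))).mul (hgA.inv hgV) (inv_mem hgV)
    have h2 : dg a ha0 * up b₀ * (dg a ha0)⁻¹ = up b := by
      rw [dg_up, mul_inv_cancel_right]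
      congr 1
      rw [pow_two, ← ha, inv_mul_cancel_right₀ hb₀0]
    rwa [h2] at h1
  have hbr := D.br (zl (S : Subgroup G) H) hUS hup1 hup2
  have hUVU : ⁅zl (S : Subgroup G) H, zl (S : Subgroup G) P⁆ ≤ zl (S : Subgroup G) H := by
    refine commutator_le.2 fun u hu v hv => ?_
    rw [commutatorElement_def]
    have h1 : v * u⁻¹ * v⁻¹ ∈ zl (S : Subgroup G) H := conj_mem_of_mem (hHU (hVH hv)) (inv_mem hu)
    have h2 := mul_mem hu h1
    have e1 : u * (v * u⁻¹ * v⁻¹) = u * v * u⁻¹ * v⁻¹ := by group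
    rwa [e1] at h2
  -- `R ≤ U`
  have hRU : Rp ≤ zl (S : Subgroup G) H := by
    -- `z ∈ Z - D`
    obtain ⟨z, hz, hzD⟩ : ∃ z ∈ zc (S : Subgroup G), z ∉ Dp := by
      by_contra hcon
      push Not at hcon
      have h1 : zl (S : Subgroup G) P ≤ Dp := zl_le hcon D.PD
      obtain ⟨v, hv, hev⟩ := D.surj ![1, 0]
      have h2 := (D.ker v hv).2 (h1 hv)
      rw [hev] at h2
      exact one_ne_zero (congrFun h2 0)
    obtain ⟨r, hr, d, hd, hzrd⟩ := D.exists_rd (D.zcZ hz)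
    have hr0 : e r 0 ≠ 0 := by
      intro h1
      apply hzD
      have h2 : r = 1 := D.R_inj hr (one_mem _) (by rw [h1, D.e_one]; rfl)
      rw [hzrd, h2, one_mul]
      exact hd
    obtain ⟨a, ha0, ha1⟩ := D.big
    have key : ∀ (b : F) (hb : b ≠ 0), ∃ g ∈ B, Act e (zl (S : Subgroup G) P) g (dg b hb) ∧
        g * z * g⁻¹ * z⁻¹ = (g * r * g⁻¹) * r := by
      intro b hb
      obtain ⟨g, hg, hgA, hgD⟩ := D.dgB b hb
      refine ⟨g, hg, hgA, ?_⟩
      have h1 : g * d * g⁻¹ = d := by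
        rw [← mem_centralizer_iff.1 hgD d hd, mul_inv_cancel_right]
      have h2 : g * r * g⁻¹ * d * d⁻¹ * r⁻¹ = (g * r * g⁻¹) * r := by
        rw [D.inv_V (D.RV hr)]
        group
      calc g * z * g⁻¹ * z⁻¹ = (g * r * g⁻¹) * (g * d * g⁻¹) * d⁻¹ * r⁻¹ := by rw [hzrd]; group
        _ = (g * r * g⁻¹) * d * d⁻¹ * r⁻¹ := by rw [h1]
        _ = (g * r * g⁻¹) * r := h2
    -- `r₁ = [g, z] ∈ R ∩ U`, `≠ 1`
    obtain ⟨g, hg, hgA, hgz⟩ := key a ha0
    have hr₁ := D.dg_R ha0 hg hgA hr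
    have h1 : (g * r * g⁻¹) * r ∈ zl (S : Subgroup G) H := by
      rw [← hgz]
      exact mul_mem (conj_mem_of_mem (hHU (hBH hg)) (zc_le_zl _ _ hz)) (inv_mem (zc_le_zl _ _ hz))
    have h2 : (g * r * g⁻¹) * r ∈ Rp := mul_mem hr₁.1 hr
    have h3 : e ((g * r * g⁻¹) * r) 0 = (a + 1) * e r 0 := by
      rw [D.mul _ (D.RV hr₁.1) _ (D.RV hr), Pi.add_apply, hr₁.2]
      ring
    have h4 : a + 1 ≠ 0 := by
      intro h5
      apply ha1
      have h6 := D.two_eq (1 : F)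
      exact add_right_cancel (h5.trans h6.symm)
    have h5 : (a + 1) * e r 0 ≠ 0 := mul_ne_zero h4 hr0
    intro r' hr'
    by_cases h6 : e r' 0 = 0
    · have h7 : r' = 1 := D.R_inj hr' (one_mem _) (by rw [h6, D.e_one]; rfl)
      rw [h7]
      exact one_mem _
    · obtain ⟨g', hg', hgA', -⟩ := D.dgB (e r' 0 * ((a + 1) * e r 0)⁻¹) (mul_ne_zero h6 (inv_ne_zero h5))
      have h7 := D.dg_R _ hg' hgA' h2
      have h8 : g' * ((g * r * g⁻¹) * r) * g'⁻¹ = r' := by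
        refine D.R_inj h7.1 hr' ?_
        rw [h7.2, h3, inv_mul_cancel_right₀ h5]
      rw [← h8]
      exact conj_mem_of_mem (hHU (hBH hg')) h1
  have hZU : Zp ≤ zl (S : Subgroup G) H := hbr.trans (sup_le hUVU hRU)
  -- `H = N B`
  have hHB : H ≤ NN (S : Subgroup G) P H ⊔ B := by
    by_contra hcon
    have h1 : zl (S : Subgroup G) P ≤ o2 (NN (S : Subgroup G) P H ⊔ B) :=
      hmin _ le_sup_right (sup_le hNH hBH) fun h => hcon h.ge
    have h2 : zl (S : Subgroup G) P ≤ o2 (NN (S : Subgroup G) P H) :=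
      (le_inf h1 (le_NN _ _ _)).trans (o2_inf_le le_sup_left)
    refine hne (h2.trans (le_o2 ((o2_le _).trans hNH) (o2_isPGroup _) ?_))
    exact (le_normalizer_NN (S : Subgroup G) P H).trans (Cfsg.Agent.Omega.normalizer_le_normalizer_o2' _)
  refine ⟨H,
    { hc := D.hc
      data := D.data
      par := D.par
      loc := hloc
      ne := hVU
      mul := D.mul
      surj := D.surj
      ker := D.ker
      line := D.line
      lift := D.lift
      up1 := hup1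
      up2 := hup2
      cent := fun u hu h => D.cent u (hUS hu) h
      ZV := D.ZV
      ZU := hZU
      zcZ := D.zcZ
      RZ := D.RZ
      DZ := D.DZ
      ZRD := D.ZRD
      RD := D.RD
      PD := D.PD
      ZUV := hbr
      SB := D.SB
      BP := D.BP
      BH := hBH
      BZ := D.BZ
      HB := hHB
      HRp := hHR
      NR := hNR
      SN := ?_
      field := D.field
      gd := D.gd
      good := D.good
      tor := D.tor
      eps := D.eps }⟩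
  intro s hs
  obtain ⟨hsS, hsN⟩ := mem_inf.1 hs
  refine D.field s hsS fun v hv => ?_
  obtain ⟨r, hr, d, hd, rfl⟩ := D.exists_rd hv
  have h1 : s * (r * d) * s⁻¹ = r * (s * d * s⁻¹) := by
    have h2 := mem_centralizer_iff.1 (hNR hsN) r hr
    calc s * (r * d) * s⁻¹ = (s * r) * d * s⁻¹ := by group
      _ = (r * s) * d * s⁻¹ := by rw [h2]
      _ = r * (s * d * s⁻¹) := by group
  have hd' : s * d * s⁻¹ ∈ Dp := conj_mem_of_mem (D.PD (D.SP hsS)) hd
  rw [h1, D.mul r (D.RV hr) _ (D.DV hd'), D.mul r (D.RV hr) d (D.DV hd), (D.ker _ (D.DV hd')).2 hd',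
    (D.ker _ (D.DV hd)).2 hd]

/-- **(f)** -/
theorem «false» : False := by
  obtain ⟨H, h⟩ := D.exists_hypF
  exact h.false

end PreF

end Cfsg.Agent.Omega.NOThreeL.RFEnd
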